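import Cfsg.Agent.Lib.KnownA.D4Sub.Basic
import Mathlib.LinearAlgebra.Dimension.Finite

/-!
An overgroup of the points over the subfield with a root element outside them is the whole ³D₄(q).
-/

set_option autoImplicit false
set_option maxRecDepth 20000
set_option linter.unusedSimpArgs false
set_option Elab.async false

namespace CfsgLib.KnownA.D4Sub

open CfsgLib.Chevalley CfsgLib.Chevalley.Tbl

variable {K : Type*} [Field K] [Finite K] {q : ℕ} (hq : IsPrimePow q) (hK : Nat.card K = q ^ 3)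

local notation "TT" => Data.D4.tbl
local notation "xx" => Data.D4.tbl.xU K
local notation "σ" => Twist.D4.fq hq hK
local notation "SS" => AbSetup.S (Twist.D4.setup hq hK)
local notation "φ" => phi hq hK

/-- The reflection of the long fundamental root. -/
noncomputable def n14 : GL (Data.D4.tbl).I K := Data.D4.tbl.nU K 14 1

/-- The reflection of the short fundamental orbit. -/
noncomputable def nA : GL (Data.D4.tbl).I K :=
  Data.D4.tbl.nU K 18 1 * (Data.D4.tbl.nU K 13 1 * Data.D4.tbl.nU K 12 1)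

theorem n14_x {s s' : ℕ} {e : ℤ} (hs : s < 24) (h : (TT).refl 1 s = s') (he : (TT).eta 1 s = e) (t : K) :
    (n14 : GL (TT).I K) * xx s t = xx s' ((e : K) * t) * n14 := by
  have k := nU_simple_xU (T := TT) (F := K) Data.D4.valid (i := 1) (by decide +kernel) (s := s) hs t
  rw [show (TT).simple 1 = 14 by decide +kernel, h, he] at k
  exact k

theorem nA_x {s s₁ s₂ s₃ : ℕ} {e : ℤ} (hs : s < 24)
    (h : (TT).refl 3 s = s₁ ∧ (TT).refl 2 s₁ = s₂ ∧ (TT).refl 0 s₂ = s₃ ∧ s₁ < 24 ∧ s₂ < 24)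
    (he : (TT).eta 0 s₂ * (TT).eta 2 s₁ * (TT).eta 3 s = e) (t : K) :
    (nA : GL (TT).I K) * xx s t = xx s₃ ((e : K) * t) * nA := by
  obtain ⟨h1, h2, h3, hb1, hb2⟩ := h
  have k : ∀ i r, i < 4 → r < 24 → ∀ t : K, (TT).nU K ((TT).simple i) 1 * xx r t =
      xx ((TT).refl i r) (((TT).eta i r : K) * t) * (TT).nU K ((TT).simple i) 1 :=
    fun i r hi hr t => nU_simple_xU Data.D4.valid hi hr t
  have e1 := k 3 s (by norm_num) hs t
  have e2 := k 2 s₁ (by norm_num) hb1 ((((TT).eta 3 s : ℤ) : K) * t)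
  have e3 := k 0 s₂ (by norm_num) hb2 ((((TT).eta 2 s₁ : ℤ) : K) * ((((TT).eta 3 s : ℤ) : K) * t))
  rw [h1, show (TT).simple 3 = 12 by decide +kernel] at e1
  rw [h2, show (TT).simple 2 = 13 by decide +kernel] at e2
  rw [h3, show (TT).simple 0 = 18 by decide +kernel] at e3
  rw [nA, ← he, Int.cast_mul, Int.cast_mul, mul_assoc, mul_assoc, e1, ← mul_assoc ((TT).nU K 13 1), e2,
    ← mul_assoc, ← mul_assoc, e3]
  simp only [mul_assoc]

theorem sg_n {r : ℕ} (hr : r < 24) (he : Data.D4.graph.lam r = 1 ∧ Data.D4.graph.ε r = 1) :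
    (SS).sg ((TT).nU K r 1) = (TT).nU K (Data.D4.graph.ρ r) 1 := by
  refine ((SS).sg_nU ⟨r, hr⟩ 1).trans ?_
  show (TT).nU K (Data.D4.graph.ρ r) (Data.D4.graph.par r (σ 1)) = _
  rw [RootMap.par, he.1, he.2, pow_one, map_one, Int.cast_one, mul_one]

theorem n_group {r : ℕ} (hr : r < 24) : (TT).nU K r 1 ∈ (TT).datum.group K :=
  nU_mem_group Data.D4.valid hr _

theorem n_comm {r s : ℕ}
    (h : ∀ r' ∈ [r, (TT).neg r], ∀ s' ∈ [s, (TT).neg s], r' < 24 ∧ s' < 24 ∧
      s' ≠ (TT).neg r' ∧ (TT).commT r' s' = []) :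
    Commute ((TT).nU K r 1) ((TT).nU K s 1) := by
  have hc : ∀ r' ∈ [r, (TT).neg r], ∀ s' ∈ [s, (TT).neg s], ∀ t u : K,
      Commute (xx r' t) (xx s' u) := fun r' hr' s' hs' => by
    obtain ⟨h1, h2, h4, h5⟩ := h r' hr' s' hs'
    exact commX h1 h2 h4 h5
  have hx : ∀ r' ∈ [r, (TT).neg r], ∀ t : K, Commute (xx r' t) ((TT).nU K s 1) := fun r' hr' t =>
    ((hc r' hr' s (by simp) t _).mul_right (hc r' hr' _ (by simp) t _)).mul_right
      (hc r' hr' s (by simp) t _)
  exact ((hx r (by simp) _).mul_left (hx _ (by simp) _)).mul_left (hx r (by simp) _)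

theorem n14_fix : (n14 : GL (TT).I K) ∈ (SS).fix := by
  refine ⟨n_group (by norm_num), ?_⟩
  rw [n14, sg_n hq hK (by norm_num) (by decide +kernel),
    show Data.D4.graph.ρ 14 = 14 by decide +kernel]

theorem nA_fix : (nA : GL (TT).I K) ∈ (SS).fix := by
  have g1 := n_group (K := K) (show 18 < 24 by norm_num)
  have g2 := n_group (K := K) (show 13 < 24 by norm_num)
  have g3 := n_group (K := K) (show 12 < 24 by norm_num)
  refine ⟨mul_mem g1 (mul_mem g2 g3), ?_⟩
  rw [nA, (SS).sg_mul g1 (mul_mem g2 g3), (SS).sg_mul g2 g3, sg_n hq hK (by norm_num) (by decide +kernel),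
    sg_n hq hK (by norm_num) (by decide +kernel), sg_n hq hK (by norm_num) (by decide +kernel),
    show Data.D4.graph.ρ 18 = 13 by decide +kernel, show Data.D4.graph.ρ 13 = 12 by decide +kernel,
    show Data.D4.graph.ρ 12 = 18 by decide +kernel, ← mul_assoc,
    ((n_comm (K := K) (r := 18) (s := 13) (by decide +kernel)).mul_right
      (n_comm (K := K) (r := 18) (s := 12) (by decide +kernel))).eq]

variable {hq hK} {H : Subgroup (GL (Data.D4.tbl).I K)}

theorem Over.n14_mem (h : Over hq hK H) : (n14 : GL (TT).I K) ∈ H :=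
  h.ge _ (n14_fix hq hK) (phi_n hq hK (by norm_num))

theorem Over.nA_mem (h : Over hq hK H) : (nA : GL (TT).I K) ∈ H :=
  h.ge _ (nA_fix hq hK) (by
    rw [nA, map_mul, map_mul, phi_n hq hK (by norm_num), phi_n hq hK (by norm_num), phi_n hq hK (by norm_num)])

variable (hq hK)

theorem n14_A (t : K) : (n14 : GL (TT).I K) * A hq hK t = B hq hK t * n14 := by
  rw [A, B, ← mul_assoc, n14_x (s' := 19) (e := 1) (by norm_num) (by decide +kernel) (by decide +kernel),
    mul_assoc (xx 19 _), ← mul_assoc n14,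
    n14_x (s' := 16) (e := -1) (by norm_num) (by decide +kernel) (by decide +kernel),
    mul_assoc (xx 16 _), n14_x (s' := 15) (e := -1) (by norm_num) (by decide +kernel) (by decide +kernel)]
  simp only [Int.cast_one, Int.cast_neg, one_mul, neg_mul, mul_assoc]

theorem nA_B (t : K) : (nA : GL (TT).I K) * B hq hK t = C hq hK (-σ (σ t)) * nA := by
  rw [C, B, ← mul_assoc,
    nA_x (s₁ := (TT).refl 3 19) (s₂ := (TT).refl 2 ((TT).refl 3 19)) (s₃ := 17) (e := 1) (by norm_num)
      (by decide +kernel) (by decide +kernel),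
    mul_assoc (xx 17 _), ← mul_assoc nA,
    nA_x (s₁ := (TT).refl 3 16) (s₂ := (TT).refl 2 ((TT).refl 3 16)) (s₃ := 20) (e := 1) (by norm_num)
      (by decide +kernel) (by decide +kernel),
    mul_assoc (xx 20 _),
    nA_x (s₁ := (TT).refl 3 15) (s₂ := (TT).refl 2 ((TT).refl 3 15)) (s₃ := 21) (e := 1) (by norm_num)
      (by decide +kernel) (by decide +kernel)]
  simp only [map_neg, h3 hq hK, neg_neg, Int.cast_one, one_mul, ← mul_assoc]
  refine congrArg (· * nA) ?_
  have c1 : Commute (xx 21 (-σ (σ t))) (xx 17 t) :=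
    commX (by norm_num) (by norm_num) (by decide +kernel) (by decide +kernel) _ _
  have c2 : Commute (xx 21 (-σ (σ t))) (xx 20 (-σ t)) :=
    commX (by norm_num) (by norm_num) (by decide +kernel) (by decide +kernel) _ _
  rw [mul_assoc _ (xx 17 t), (c1.mul_right c2).eq, mul_assoc]

theorem nA_A (t : K) : (nA : GL (TT).I K) * A hq hK t = An hq hK (-t) * nA := by
  rw [A, An, ← mul_assoc,
    nA_x (s₁ := (TT).refl 3 18) (s₂ := (TT).refl 2 ((TT).refl 3 18)) (s₃ := 5) (e := -1) (by norm_num)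
      (by decide +kernel) (by decide +kernel),
    mul_assoc (xx 5 _), ← mul_assoc nA,
    nA_x (s₁ := (TT).refl 3 13) (s₂ := (TT).refl 2 ((TT).refl 3 13)) (s₃ := 10) (e := -1) (by norm_num)
      (by decide +kernel) (by decide +kernel),
    mul_assoc (xx 10 _),
    nA_x (s₁ := (TT).refl 3 12) (s₂ := (TT).refl 2 ((TT).refl 3 12)) (s₃ := 11) (e := -1) (by norm_num)
      (by decide +kernel) (by decide +kernel)]
  simp only [map_neg, Int.cast_one, Int.cast_neg, one_mul, neg_mul, mul_assoc]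

/-- Conjugates of the long root element by the short orbit. -/
theorem W_eq {c : K} (hc : σ c = c) (t : K) :
    xx 14 (-c) * (A hq hK t * xx 14 c * (A hq hK t)⁻¹) =
      B hq hK (-(c * t)) * C hq hK (-(c * (t * σ t))) * xx 22 (-(c * (t * (σ t * σ (σ t))))) *
        xx 23 (-(c * c * (t * (σ t * σ (σ t))))) := by
  simp only [A, B, C, mul_inv_rev, xU_inv Data.D4.valid (show 18 < (TT).n by decide +kernel),
    xU_inv Data.D4.valid (show 13 < (TT).n by decide +kernel),
    xU_inv Data.D4.valid (show 12 < (TT).n by decide +kernel), map_neg, map_mul, hc, h3 hq hK]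
  simp (discharger := omega) only [mul_assoc, sw_13_12, sw_13_12', sw_14_12, sw_14_12', sw_14_13, sw_14_13', sw_15_12, sw_15_12', sw_15_13, sw_15_13', sw_15_14, sw_15_14', sw_16_12, sw_16_12', sw_16_13, sw_16_13', sw_16_14, sw_16_14', sw_16_15, sw_16_15', sw_17_12, sw_17_12', sw_17_13, sw_17_13', sw_17_14, sw_17_14', sw_17_15, sw_17_15', sw_17_16, sw_17_16', sw_18_12, sw_18_12', sw_18_13, sw_18_13', sw_18_14, sw_18_14', sw_18_15, sw_18_15', sw_18_16, sw_18_16', sw_18_17, sw_18_17', sw_19_12, sw_19_12', sw_19_13, sw_19_13', sw_19_14, sw_19_14', sw_19_15, sw_19_15', sw_19_16, sw_19_16', sw_19_17, sw_19_17', sw_19_18, sw_19_18', sw_20_12, sw_20_12', sw_20_13, sw_20_13', sw_20_14, sw_20_14', sw_20_15, sw_20_15', sw_20_16, sw_20_16', sw_20_17, sw_20_17', sw_20_18, sw_20_18', sw_20_19, sw_20_19', sw_21_12, sw_21_12', sw_21_13, sw_21_13', sw_21_14, sw_21_14', sw_21_15, sw_21_15', sw_21_16, sw_21_16', sw_21_17, sw_21_17', sw_21_18, sw_21_18', sw_21_19, sw_21_19', sw_21_20,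 sw_21_20', sw_22_12, sw_22_12', sw_22_13, sw_22_13', sw_22_14, sw_22_14', sw_22_15, sw_22_15', sw_22_16, sw_22_16', sw_22_17, sw_22_17', sw_22_18, sw_22_18', sw_22_19, sw_22_19', sw_22_20, sw_22_20', sw_22_21, sw_22_21', sw_23_12, sw_23_12', sw_23_13, sw_23_13', sw_23_14, sw_23_14', sw_23_15, sw_23_15', sw_23_16, sw_23_16', sw_23_17, sw_23_17', sw_23_18, sw_23_18', sw_23_19, sw_23_19', sw_23_20, sw_23_20', sw_23_21, sw_23_21', sw_23_22, sw_23_22', x_add, x_add', x_zero, one_mul, mul_one, neg_mul, mul_neg,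
    neg_neg, add_neg_cancel, neg_add_cancel, Nat.reduceLT]
  ring_nf
  simp only [x_zero (show 23 < 24 by norm_num), mul_one]

/-- Conjugating the upper short part by the short orbit. -/
theorem A_one_conj (b e f g : K) :
    A hq hK 1 * (B hq hK b * C hq hK e * xx 22 f * xx 23 g) * (A hq hK 1)⁻¹ =
      B hq hK b * C hq hK (e + (b + σ b)) * xx 22 (f + (σ b + σ (σ b) + σ e + b + e + σ (σ e))) *
        xx 23 (g - σ b * σ (σ b) - b * σ (σ b) - b * σ b) := by
  simp only [A, B, C, mul_inv_rev, xU_inv Data.D4.valid (show 18 < (TT).n by decide +kernel),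
    xU_inv Data.D4.valid (show 13 < (TT).n by decide +kernel),
    xU_inv Data.D4.valid (show 12 < (TT).n by decide +kernel), map_add, map_one, h3 hq hK]
  simp (discharger := omega) only [mul_assoc, sw_13_12, sw_13_12', sw_14_12, sw_14_12', sw_14_13, sw_14_13', sw_15_12, sw_15_12', sw_15_13, sw_15_13', sw_15_14, sw_15_14', sw_16_12, sw_16_12', sw_16_13, sw_16_13', sw_16_14, sw_16_14', sw_16_15, sw_16_15', sw_17_12, sw_17_12', sw_17_13, sw_17_13', sw_17_14, sw_17_14', sw_17_15, sw_17_15', sw_17_16, sw_17_16', sw_18_12, sw_18_12', sw_18_13, sw_18_13', sw_18_14, sw_18_14', sw_18_15, sw_18_15', sw_18_16, sw_18_16', sw_18_17, sw_18_17', sw_19_12, sw_19_12', sw_19_13, sw_19_13', sw_19_14, sw_19_14', sw_19_15, sw_19_15', sw_19_16, sw_19_16', sw_19_17, sw_19_17', sw_19_18, sw_19_18', sw_20_12, sw_20_12', sw_20_13, sw_20_13', sw_20_14, sw_20_14', sw_20_15, sw_20_15', sw_20_16, sw_20_16', sw_20_17, sw_20_17', sw_20_18, sw_20_18', sw_20_19, sw_20_19', sw_21_12, sw_21_12',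 sw_21_13, sw_21_13', sw_21_14, sw_21_14', sw_21_15, sw_21_15', sw_21_16, sw_21_16', sw_21_17, sw_21_17', sw_21_18, sw_21_18', sw_21_19, sw_21_19', sw_21_20, sw_21_20', sw_22_12, sw_22_12', sw_22_13, sw_22_13', sw_22_14, sw_22_14', sw_22_15, sw_22_15', sw_22_16, sw_22_16', sw_22_17, sw_22_17', sw_22_18, sw_22_18', sw_22_19, sw_22_19', sw_22_20, sw_22_20', sw_22_21, sw_22_21', sw_23_12, sw_23_12', sw_23_13, sw_23_13', sw_23_14, sw_23_14', sw_23_15, sw_23_15', sw_23_16, sw_23_16', sw_23_17, sw_23_17', sw_23_18, sw_23_18', sw_23_19, sw_23_19', sw_23_20, sw_23_20', sw_23_21, sw_23_21', sw_23_22, sw_23_22', x_add, x_add', x_zero, one_mul, mul_one, neg_mul, mul_neg,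
    neg_neg, add_neg_cancel, neg_add_cancel, Nat.reduceLT]
  ring_nf

/-- Long factors of a fixed product are fixed. -/
theorem long_tail {e f g : K} (h : C hq hK e * xx 22 f * xx 23 g ∈ (SS).fix) : σ f = f ∧ σ g = g := by
  have h' : xx 22 f * xx 23 g ∈ (SS).fix := by
    have := mul_mem (inv_mem (C_fix hq hK e)) h
    rwa [mul_assoc (C hq hK e), inv_mul_cancel_left] at this
  have e' := h'.2
  rw [(SS).sg_mul (x_group (by norm_num) f) (x_group (by norm_num) g),
    sg_x hq hK (show 22 < 24 by norm_num) (show Data.D4.graph.ρ 22 = 22 by decide +kernel)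
      (show Data.D4.graph.ε 22 = 1 by decide +kernel) (by decide +kernel),
    sg_x hq hK (show 23 < 24 by norm_num) (show Data.D4.graph.ρ 23 = 23 by decide +kernel)
      (show Data.D4.graph.ε 23 = 1 by decide +kernel) (by decide +kernel), Int.cast_one, one_mul,
    one_mul] at e'
  obtain ⟨k1, k2⟩ := xU_mul_inj Data.D4.valid Data.D4.chkComm (k := 22) (by decide +kernel)
    (show 22 < (TT).n by decide +kernel)
    (xU_mem_rootGen (P := fun s => 22 + 1 ≤ s) (show 23 < (TT).n by decide +kernel) (by norm_num) _)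
    (xU_mem_rootGen (P := fun s => 22 + 1 ≤ s) (show 23 < (TT).n by decide +kernel) (by norm_num) _) e'
  exact ⟨k1, xU_inj Data.D4.valid (show 23 < (TT).n by decide +kernel) k2⟩

variable {hq hK}

/-- The short root parameters of an overgroup. -/
def Par (H : Subgroup (GL (Data.D4.tbl).I K)) : Set K := {t | A hq hK t ∈ H}

theorem Over.mem_B (h : Over hq hK H) {t : K} (ht : t ∈ Par (hq := hq) (hK := hK) H) : B hq hK t ∈ H := by
  rw [show B hq hK t = n14 * A hq hK t * n14⁻¹ by rw [n14_A, mul_inv_cancel_right]]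
  exact mul_mem (mul_mem h.n14_mem ht) (inv_mem h.n14_mem)

theorem Over.par_of_C (h : Over hq hK H) {t : K} (ht : C hq hK t ∈ H) :
    -σ t ∈ Par (hq := hq) (hK := hK) H := by
  have e : C hq hK t = nA * B hq hK (-σ t) * nA⁻¹ := by
    rw [nA_B, mul_inv_cancel_right, map_neg, map_neg, h3 hq hK, neg_neg]
  have hB : B hq hK (-σ t) ∈ H := by
    have := mul_mem (mul_mem (inv_mem h.nA_mem) ht) h.nA_mem
    rwa [e, show nA⁻¹ * (nA * B hq hK (-σ t) * nA⁻¹) * nA = B hq hK (-σ t) by group] at this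
  show A hq hK (-σ t) ∈ H
  have e2 : A hq hK (-σ t) = n14⁻¹ * B hq hK (-σ t) * n14 := by
    rw [mul_assoc, ← n14_A, inv_mul_cancel_left]
  rw [e2]
  exact mul_mem (mul_mem (inv_mem h.n14_mem) hB) h.n14_mem

/-- From an element of the upper short part a root element of the highest short orbit. -/
theorem Over.par_of_upper (h : Over hq hK H) {b e f g : K}
    (hu : B hq hK b * C hq hK e * xx 22 f * xx 23 g ∈ H) :
    -(σ b + σ (σ b)) ∈ Par (hq := hq) (hK := hK) H := by
  set f' := σ b + σ (σ b) + σ e + b + e + σ (σ e)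
  set g' := -σ b * σ (σ b) - b * σ (σ b) - b * σ b
  have hA := h.A_mem (c := 1) (map_one _)
  have h1 := mul_mem (inv_mem hu) (mul_mem (mul_mem hA hu) (inv_mem hA))
  have k : (B hq hK b * C hq hK e * xx 22 f * xx 23 g)⁻¹ *
      (A hq hK 1 * (B hq hK b * C hq hK e * xx 22 f * xx 23 g) * (A hq hK 1)⁻¹) =
      C hq hK (b + σ b) * xx 22 f' * xx 23 g' := by
    rw [A_one_conj, inv_mul_eq_iff_eq_mul]
    simp only [B, C, map_add, f', g']
    simp (discharger := omega) only [mul_assoc, sw_13_12, sw_13_12', sw_14_12, sw_14_12', sw_14_13, sw_14_13', sw_15_12, sw_15_12', sw_15_13, sw_15_13', sw_15_14, sw_15_14', sw_16_12, sw_16_12', sw_16_13, sw_16_13', sw_16_14, sw_16_14', sw_16_15, sw_16_15', sw_17_12, sw_17_12', sw_17_13, sw_17_13', sw_17_14, sw_17_14', sw_17_15, sw_17_15', sw_17_16, sw_17_16', sw_18_12, sw_18_12', sw_18_13, sw_18_13', sw_18_14, sw_18_14', sw_18_15, sw_18_15', sw_18_16, sw_18_16', sw_18_17, sw_18_17', sw_19_12, sw_19_12', sw_19_13, sw_19_13', sw_19_14,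 sw_19_14', sw_19_15, sw_19_15', sw_19_16, sw_19_16', sw_19_17, sw_19_17', sw_19_18, sw_19_18', sw_20_12, sw_20_12', sw_20_13, sw_20_13', sw_20_14, sw_20_14', sw_20_15, sw_20_15', sw_20_16, sw_20_16', sw_20_17, sw_20_17', sw_20_18, sw_20_18', sw_20_19, sw_20_19', sw_21_12, sw_21_12', sw_21_13, sw_21_13', sw_21_14, sw_21_14', sw_21_15, sw_21_15', sw_21_16, sw_21_16', sw_21_17, sw_21_17', sw_21_18, sw_21_18', sw_21_19, sw_21_19', sw_21_20, sw_21_20', sw_22_12, sw_22_12', sw_22_13, sw_22_13', sw_22_14, sw_22_14', sw_22_15, sw_22_15', sw_22_16, sw_22_16', sw_22_17, sw_22_17', sw_22_18, sw_22_18', sw_22_19, sw_22_19', sw_22_20, sw_22_20', sw_22_21, sw_22_21', sw_23_12, sw_23_12', sw_23_13, sw_23_13', sw_23_14, sw_23_14', sw_23_15, sw_23_15', sw_23_16, sw_23_16', sw_23_17, sw_23_17', sw_23_18, sw_23_18', sw_23_19, sw_23_19', sw_23_20, sw_23_20', sw_23_21, sw_23_21', sw_23_22, sw_23_22', x_add, x_add', x_zero, one_mul, mul_one, neg_mul, mul_neg,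
      neg_neg, add_neg_cancel, neg_add_cancel, Nat.reduceLT]
    ring_nf
  rw [k] at h1
  obtain ⟨hf, hg⟩ := long_tail hq hK (h.le h1)
  have h2 : C hq hK (b + σ b) ∈ H := by
    have := mul_mem (mul_mem h1 (inv_mem (h.long (show 23 < 24 by norm_num) (by decide +kernel) hg)))
      (inv_mem (h.long (show 22 < 24 by norm_num) (by decide +kernel) hf))
    simpa only [mul_inv_cancel_right] using this
  simpa [map_add] using h.par_of_C h2

theorem Over.conj_upper (h : Over hq hK H) {c t : K} (hc : σ c = c)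
    (hy : A hq hK t * xx 14 c * (A hq hK t)⁻¹ ∈ H) :
    B hq hK (-(c * t)) * C hq hK (-(c * (t * σ t))) * xx 22 (-(c * (t * (σ t * σ (σ t))))) *
      xx 23 (-(c * c * (t * (σ t * σ (σ t))))) ∈ H := by
  rw [← W_eq hq hK hc t]
  exact mul_mem (h.long (by norm_num) (by decide +kernel) (by rw [map_neg, hc])) hy

theorem norm_fix (t : K) : σ (t * (σ t * σ (σ t))) = t * (σ t * σ (σ t)) := by
  rw [map_mul, map_mul, h3 hq hK]; ring

theorem Over.par_add (h : Over hq hK H) {s t : K} (hs : s ∈ Par (hq := hq) (hK := hK) H)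
    (ht : t ∈ Par (hq := hq) (hK := hK) H) : s + t ∈ Par (hq := hq) (hK := hK) H := by
  show A hq hK (s + t) ∈ H
  have e : A hq hK (s + t) = A hq hK s * A hq hK t := by
    simp only [A, map_add]
    simp (discharger := omega) only [mul_assoc, sw_13_12, sw_13_12', sw_14_12, sw_14_12', sw_14_13, sw_14_13', sw_15_12, sw_15_12', sw_15_13, sw_15_13', sw_15_14, sw_15_14', sw_16_12, sw_16_12', sw_16_13, sw_16_13', sw_16_14, sw_16_14', sw_16_15, sw_16_15', sw_17_12, sw_17_12', sw_17_13, sw_17_13', sw_17_14, sw_17_14', sw_17_15, sw_17_15', sw_17_16, sw_17_16', sw_18_12, sw_18_12', sw_18_13, sw_18_13', sw_18_14, sw_18_14', sw_18_15, sw_18_15', sw_18_16, sw_18_16', sw_18_17, sw_18_17', sw_19_12, sw_19_12', sw_19_13, sw_19_13', sw_19_14, sw_19_14', sw_19_15, sw_19_15', sw_19_16, sw_19_16', sw_19_17, sw_19_17', sw_19_18, sw_19_18', sw_20_12, sw_20_12', sw_20_13, sw_20_13', sw_20_14, sw_20_14', sw_20_15, sw_20_15', sw_20_16, sw_20_16', sw_20_17, sw_20_17', sw_20_18, sw_20_18',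 sw_20_19, sw_20_19', sw_21_12, sw_21_12', sw_21_13, sw_21_13', sw_21_14, sw_21_14', sw_21_15, sw_21_15', sw_21_16, sw_21_16', sw_21_17, sw_21_17', sw_21_18, sw_21_18', sw_21_19, sw_21_19', sw_21_20, sw_21_20', sw_22_12, sw_22_12', sw_22_13, sw_22_13', sw_22_14, sw_22_14', sw_22_15, sw_22_15', sw_22_16, sw_22_16', sw_22_17, sw_22_17', sw_22_18, sw_22_18', sw_22_19, sw_22_19', sw_22_20, sw_22_20', sw_22_21, sw_22_21', sw_23_12, sw_23_12', sw_23_13, sw_23_13', sw_23_14, sw_23_14', sw_23_15, sw_23_15', sw_23_16, sw_23_16', sw_23_17, sw_23_17', sw_23_18, sw_23_18', sw_23_19, sw_23_19', sw_23_20, sw_23_20', sw_23_21, sw_23_21', sw_23_22, sw_23_22', x_add, x_add', x_zero, one_mul, mul_one, Nat.reduceLT]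
  rw [e]
  exact mul_mem hs ht

theorem Over.par_fixed (h : Over hq hK H) {c : K} (hc : σ c = c) : c ∈ Par (hq := hq) (hK := hK) H :=
  h.A_mem hc

theorem Over.par_smul (h : Over hq hK H) {c t : K} (hc : σ c = c) (ht : t ∈ Par (hq := hq) (hK := hK) H) :
    c * t ∈ Par (hq := hq) (hK := hK) H := by
  have hu := h.conj_upper hc (mul_mem (mul_mem ht (h.long (by norm_num) (by decide +kernel) hc)) (inv_mem ht))
  have k := h.par_of_upper hu
  simp only [map_neg, map_mul, hc, ← neg_add, neg_neg] at k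
  have hT : σ (-(c * t + c * σ t + c * σ (σ t))) = -(c * t + c * σ t + c * σ (σ t)) := by
    simp only [map_neg, map_add, map_mul, hc, h3 hq hK]; ring
  have := h.par_add k (h.par_fixed hT)
  rw [show c * σ t + c * σ (σ t) + -(c * t + c * σ t + c * σ (σ t)) = -(c * t) by ring] at this
  have e : A hq hK (c * t) = (A hq hK (-(c * t)))⁻¹ := by
    rw [eq_inv_iff_mul_eq_one]
    simp only [A, map_neg]
    simp (discharger := omega) only [mul_assoc, sw_13_12, sw_13_12', sw_14_12, sw_14_12', sw_14_13, sw_14_13', sw_15_12, sw_15_12', sw_15_13, sw_15_13', sw_15_14, sw_15_14', sw_16_12, sw_16_12', sw_16_13, sw_16_13', sw_16_14, sw_16_14', sw_16_15, sw_16_15', sw_17_12, sw_17_12', sw_17_13, sw_17_13', sw_17_14, sw_17_14', sw_17_15, sw_17_15', sw_17_16, sw_17_16', sw_18_12, sw_18_12', sw_18_13, sw_18_13', sw_18_14, sw_18_14', sw_18_15, sw_18_15', sw_18_16, sw_18_16', sw_18_17, sw_18_17', sw_19_12, sw_19_12', sw_19_13, sw_19_13', sw_19_14, sw_19_14', sw_19_15, sw_19_15',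 sw_19_16, sw_19_16', sw_19_17, sw_19_17', sw_19_18, sw_19_18', sw_20_12, sw_20_12', sw_20_13, sw_20_13', sw_20_14, sw_20_14', sw_20_15, sw_20_15', sw_20_16, sw_20_16', sw_20_17, sw_20_17', sw_20_18, sw_20_18', sw_20_19, sw_20_19', sw_21_12, sw_21_12', sw_21_13, sw_21_13', sw_21_14, sw_21_14', sw_21_15, sw_21_15', sw_21_16, sw_21_16', sw_21_17, sw_21_17', sw_21_18, sw_21_18', sw_21_19, sw_21_19', sw_21_20, sw_21_20', sw_22_12, sw_22_12', sw_22_13, sw_22_13', sw_22_14, sw_22_14', sw_22_15, sw_22_15', sw_22_16, sw_22_16', sw_22_17, sw_22_17', sw_22_18, sw_22_18', sw_22_19, sw_22_19', sw_22_20, sw_22_20', sw_22_21, sw_22_21', sw_23_12, sw_23_12', sw_23_13, sw_23_13', sw_23_14, sw_23_14', sw_23_15, sw_23_15', sw_23_16, sw_23_16', sw_23_17, sw_23_17', sw_23_18, sw_23_18', sw_23_19, sw_23_19', sw_23_20, sw_23_20', sw_23_21, sw_23_21', sw_23_22, sw_23_22', x_add, x_add', x_zero, one_mul, mul_one,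
      add_neg_cancel, Nat.reduceLT]
  show A hq hK (c * t) ∈ H
  rw [e]
  exact inv_mem this

theorem Over.par_neg (h : Over hq hK H) {t : K} (ht : t ∈ Par (hq := hq) (hK := hK) H) :
    -t ∈ Par (hq := hq) (hK := hK) H := by
  simpa using h.par_smul (c := -1) (by simp) ht

theorem Over.par_inv (h : Over hq hK H) {t : K} (ht : t ∈ Par (hq := hq) (hK := hK) H) :
    σ t * σ (σ t) ∈ Par (hq := hq) (hK := hK) H := by
  have h1 : σ (1 : K) = 1 := map_one _
  have hu := h.conj_upper h1 (mul_mem (mul_mem ht (h.long (by norm_num) (by decide +kernel) h1)) (inv_mem ht))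
  simp only [one_mul] at hu
  have hN := norm_fix (hq := hq) (hK := hK) t
  have hB := h.mem_B (h.par_neg ht)
  have h2 := mul_mem (mul_mem (mul_mem (inv_mem hB) hu)
    (inv_mem (h.long (show 23 < 24 by norm_num) (by decide +kernel) (c := -(t * (σ t * σ (σ t))))
      (by rw [map_neg, hN]))))
    (inv_mem (h.long (show 22 < 24 by norm_num) (by decide +kernel) (c := -(t * (σ t * σ (σ t))))
      (by rw [map_neg, hN])))
  simp only [mul_assoc, inv_mul_cancel_left, mul_inv_cancel, mul_one, mul_inv_cancel_left] at h2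
  simpa [map_mul] using h.par_of_C h2

variable (hq hK)

include hq hK in
theorem card_fix : Nat.card {c : K // σ c = c} = q := by
  have h := Twist.D4.hcard hq hK 0 (by show 0 < 2; norm_num)
  rw [show ((Twist.D4.setup hq hK).Ss.getD 0 []).length = 1 from rfl, pow_one] at h
  exact (Nat.card_congr (Equiv.subtypeEquivRight fun c =>
    (Twist.D4.fit_iff0 hq hK c).trans (by rw [Twist.D4.fq_apply]))).symm.trans h

variable {hq hK}

theorem Over.par_univ (h : Over hq hK H) {t : K} (ht : t ∈ Par (hq := hq) (hK := hK) H) (hne : σ t ≠ t)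
    (x : K) : x ∈ Par (hq := hq) (hK := hK) H := by
  set s := σ t * σ (σ t) with hs
  have hsP := h.par_inv ht
  have hN := norm_fix (hq := hq) (hK := hK) t
  let F := {c : K // σ c = c}
  let m : F × F × F → K := fun p => p.1.1 + p.2.1.1 * t + p.2.2.1 * s
  have ht0 : t ≠ 0 := fun e => hne (by rw [e, map_zero])
  have hne2 : σ (σ t) ≠ t := fun e => hne (by
    have := congrArg σ e
    rw [h3 hq hK] at this
    exact this.symm)
  have key : ∀ a b c : K, σ a = a → σ b = b → σ c = c → a + b * t + c * s = 0 → a = 0 ∧ b = 0 ∧ c = 0 := by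
    intro a b c ha hb hc e
    have e1 : a * t + b * t ^ 2 + c * (t * s) = 0 := by linear_combination t * e
    have e2 : a * σ t + b * σ t ^ 2 + c * (t * s) = 0 := by
      have := congrArg σ e1
      simpa only [map_add, map_mul, map_pow, ha, hb, hc, map_zero, hN, hs] using this
    have e4 : a + b * (t + σ t) = 0 := by
      have : (t - σ t) * (a + b * (t + σ t)) = 0 := by linear_combination e1 - e2
      exact (mul_eq_zero.mp this).resolve_left (sub_ne_zero.mpr fun e => hne e.symm)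
    have e5 : a + b * (σ t + σ (σ t)) = 0 := by
      have := congrArg σ e4
      simpa only [map_add, map_mul, ha, hb, map_zero] using this
    have hb0 : b = 0 := by
      have : b * (σ (σ t) - t) = 0 := by linear_combination e5 - e4
      exact (mul_eq_zero.mp this).resolve_right (sub_ne_zero.mpr hne2)
    have ha0 : a = 0 := by simpa [hb0] using e4
    refine ⟨ha0, hb0, ?_⟩
    subst ha0 hb0
    have hs0 : s ≠ 0 := by simp [hs, ht0]
    simpa [hs0] using e
  have hinj : Function.Injective m := by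
    rintro ⟨a, b, c⟩ ⟨a', b', c'⟩ e
    obtain ⟨k1, k2, k3⟩ := key (a.1 - a'.1) (b.1 - b'.1) (c.1 - c'.1) (by rw [map_sub, a.2, a'.2])
      (by rw [map_sub, b.2, b'.2]) (by rw [map_sub, c.2, c'.2]) (by
        simp only [m] at e
        linear_combination e)
    rw [sub_eq_zero] at k1 k2 k3
    rw [Subtype.ext k1, Subtype.ext k2, Subtype.ext k3]
  have hbij : Function.Bijective m := (Nat.bijective_iff_injective_and_card m).mpr ⟨hinj, by
    rw [Nat.card_prod, Nat.card_prod, card_fix hq hK, hK]; ring⟩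
  obtain ⟨⟨a, b, c⟩, rfl⟩ := hbij.2 x
  exact h.par_add (h.par_add (h.par_fixed a.2) (h.par_smul b.2 ht)) (h.par_smul c.2 hsP)

/-- A short root element outside the subfield gives the whole group. -/
theorem Over.eq_top_of_par (h : Over hq hK H) {t : K} (ht : t ∈ Par (hq := hq) (hK := hK) H) (hne : σ t ≠ t) :
    H = (SS).fix := by
  refine le_antisymm h.le ?_
  rw [← Twist.D4.G_eq hq hK, Twist.D4.G_def]
  show (TT).datum.genSubgroup K (Cfsg.Lie.d4Words K q) ≤ H
  rw [Cfsg.Lie.ChevalleyDatum.genSubgroup, Subgroup.closure_le]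
  rintro g ⟨w, hw, hg⟩
  have hu := h.par_univ ht hne
  have hAn : ∀ x, An hq hK x ∈ H := fun x => by
    rw [show An hq hK x = nA * A hq hK (-x) * nA⁻¹ by rw [nA_A, neg_neg, mul_inv_cancel_right]]
    exact mul_mem (mul_mem h.nA_mem (hu _)) (inv_mem h.nA_mem)
  have hval : ∀ r < 24, ∀ x : K, (TT).datum.x K r x = ((xx r x : GL (TT).I K) : Matrix (TT).I (TT).I K) :=
    fun r hr x => x_eq_val Data.D4.valid hr x
  rcases hw with ⟨x, hx, r, hr, rfl⟩ | ⟨x, rs, hrs, rfl⟩
  · have hx' : σ x = x := (Twist.D4.fq_apply hq hK x).trans hx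
    rcases List.mem_pair.mp hr with rfl | rfl
    · rw [show g = xx 14 x from Units.ext (by
        rw [hg, ← hval 14 (by norm_num) x]
        simp [Cfsg.Lie.ChevalleyDatum.wordMat, Cfsg.Lie.d4p2])]
      exact h.long (by norm_num) (by decide +kernel) hx'
    · rw [show g = xx 9 x from Units.ext (by
        rw [hg, ← hval 9 (by norm_num) x]
        simp [Cfsg.Lie.ChevalleyDatum.wordMat, Cfsg.Lie.d4m2])]
      exact h.long (by norm_num) (by decide +kernel) hx'
  · have hp : x ^ q ^ 2 = σ (σ x) := by rw [Twist.D4.fq_apply, Twist.D4.fq_apply, ← pow_mul, pow_two]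
    rcases List.mem_pair.mp hrs with rfl | rfl
    · rw [show g = A hq hK x from Units.ext (by
        rw [hg]
        simp [Cfsg.Lie.ChevalleyDatum.wordMat, Cfsg.Lie.d4p1, Cfsg.Lie.d4p3, Cfsg.Lie.d4p4, A,
          hval 18 (by norm_num), hval 13 (by norm_num), hval 12 (by norm_num), hp,
          ← Twist.D4.fq_apply hq hK])]
      exact hu x
    · rw [show g = An hq hK x from Units.ext (by
        rw [hg]
        simp [Cfsg.Lie.ChevalleyDatum.wordMat, Cfsg.Lie.d4m1, Cfsg.Lie.d4m3, Cfsg.Lie.d4m4, An,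
          hval 5 (by norm_num), hval 10 (by norm_num), hval 11 (by norm_num), hp,
          ← Twist.D4.fq_apply hq hK])]
      exact hAn x

/-- A conjugate of a long root element by an orbit element lying in a proper overgroup. -/
theorem Over.param_fixed (h : Over hq hK H) (hH : H ≠ (SS).fix) {c t : K} (hc : σ c = c) (hc0 : c ≠ 0)
    (hy : A hq hK t * xx 14 c * (A hq hK t)⁻¹ ∈ H) : σ t = t := by
  have hall : ∀ s ∈ Par (hq := hq) (hK := hK) H, σ s = s := fun s hs => by
    by_contra hne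
    exact hH (h.eq_top_of_par hs hne)
  have k := hall _ (h.par_of_upper (h.conj_upper hc hy))
  simp only [map_neg, map_add, map_mul, hc, h3 hq hK] at k
  exact mul_left_cancel₀ hc0 (by linear_combination -k)

end CfsgLib.KnownA.D4Sub
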