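import Cfsg.Agent.Lib.KnownA.D4Sub.Collect
import Cfsg.Agent.Lib.Chevalley.Twist.InstD4
import Cfsg.Agent.Lib.KnownB.FieldAut.Fixed

/-!
³D₄(q) and its points over the subfield with q elements: the twisting map, the entrywise field map,
and the root elements of the orbits.
-/

set_option autoImplicit false
set_option maxRecDepth 20000
set_option Elab.async false

namespace CfsgLib.KnownA.D4Sub

open CfsgLib.Chevalley CfsgLib.Chevalley.Tbl
open CfsgLib.KnownB.FieldAut (mapGL map_xU map_nU)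

variable {K : Type*} [Field K] [Finite K] {q : ℕ} (hq : IsPrimePow q) (hK : Nat.card K = q ^ 3)

local notation "TT" => Data.D4.tbl
local notation "xx" => Data.D4.tbl.xU K
local notation "σ" => Twist.D4.fq hq hK
local notation "SS" => AbSetup.S (Twist.D4.setup hq hK)

/-- The entrywise field map. -/
noncomputable abbrev phi : GL (Data.D4.tbl).I K →* GL (Data.D4.tbl).I K :=
  mapGL Data.D4.tbl ((Twist.D4.fq hq hK).toRingHom)

local notation "φ" => phi hq hK

include hq hK in
theorem h3 (x : K) : σ (σ (σ x)) = x := by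
  rw [Twist.D4.fq_apply, Twist.D4.fq_apply, Twist.D4.fq_apply, ← pow_mul, ← pow_mul,
    show q * (q * q) = q ^ 3 by ring]
  exact Twist.D4.pow_cube hK x

include hq hK in
theorem fix_of_eq {x : K} (h : σ (σ x) = σ x) : σ x = x := (σ).injective h

theorem phi_x {r : ℕ} (hr : r < 24) (t : K) : φ (xx r t) = xx r (σ t) :=
  map_xU _ Data.D4.valid hr t

theorem phi_n {r : ℕ} (hr : r < 24) : φ (Data.D4.tbl.nU K r 1) = Data.D4.tbl.nU K r 1 := by
  rw [phi, map_nU _ Data.D4.valid hr, map_one]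

/-- The twisting map on a root element. -/
theorem sg_x {r r' : ℕ} {e : ℤ} (hr : r < 24) (hρ : Data.D4.graph.ρ r = r')
    (he : Data.D4.graph.ε r = e) (hl : Data.D4.graph.lam r = 1) (t : K) :
    (SS).sg (xx r t) = xx r' ((e : K) * σ t) := by
  refine ((Twist.D4.setup hq hK).D.sg_x hr t).trans ?_
  show xx (Data.D4.graph.ρ r) (Data.D4.graph.par r (σ t)) = _
  rw [RootMap.par, hρ, he, hl, pow_one]

theorem x_group {r : ℕ} (hr : r < 24) (t : K) : xx r t ∈ (TT).datum.group K :=
  xU_mem_group Data.D4.valid hr t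

theorem fix_le_group {g : GL (TT).I K} (hg : g ∈ (SS).fix) : g ∈ (TT).datum.group K := hg.1

theorem sg_phi {g : GL (TT).I K} (hg : g ∈ (TT).datum.group K) : (SS).sg (φ g) = φ ((SS).sg g) := by
  have hφ : ∀ g ∈ (TT).datum.group K, φ g ∈ (TT).datum.group K := fun g hg =>
    CfsgLib.KnownB.FieldAut.map_group _ Data.D4.valid ⟨g, hg, rfl⟩
  rw [group_eq Data.D4.valid] at hg hφ
  have hle : ∀ x, x ∈ Subgroup.closure {g : GL (TT).I K | ∃ r < (TT).n, ∃ t, g = (TT).xU K r t} →
      x ∈ (TT).datum.group K := fun x hx => by rwa [group_eq Data.D4.valid]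
  induction hg using Subgroup.closure_induction with
  | mem y hy =>
    obtain ⟨r, hr, t, rfl⟩ := hy
    have hl : ∀ r < 24, Data.D4.graph.lam r = 1 ∧ Data.D4.graph.ρ r < 24 := by decide +kernel
    rw [phi_x hq hK hr, sg_x hq hK hr rfl rfl (hl r hr).1, sg_x hq hK hr rfl rfl (hl r hr).1,
      phi_x hq hK (hl r hr).2, map_mul, map_intCast]
  | one => rw [map_one, (SS).sg_one, map_one]
  | mul a b ha hb iha ihb =>
    rw [map_mul, (SS).sg_mul (hle _ (hφ a ha)) (hle _ (hφ b hb)), (SS).sg_mul (hle _ ha) (hle _ hb),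
      map_mul, iha, ihb]
  | inv a ha iha =>
    rw [map_inv, (SS).sg_inv (hle _ (hφ a ha)), (SS).sg_inv (hle _ ha), map_inv, iha]

theorem phi_fix {g : GL (TT).I K} (hg : g ∈ (SS).fix) : φ g ∈ (SS).fix :=
  ⟨CfsgLib.KnownB.FieldAut.map_group _ Data.D4.valid ⟨g, hg.1, rfl⟩,
    by rw [sg_phi hq hK hg.1, hg.2]⟩

/-- The long root element: `σ`-fixed parameters. -/
theorem long_fix {r : ℕ} (hr : r < 24) (hρ : Data.D4.graph.ρ r = r) {c : K} (hc : σ c = c) :
    xx r c ∈ (SS).fix ∧ φ (xx r c) = xx r c := by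
  have hl : ∀ r < 24, Data.D4.graph.ρ r = r → Data.D4.graph.lam r = 1 ∧ Data.D4.graph.ε r = 1 := by
    decide +kernel
  obtain ⟨h1, h2⟩ := hl r hr hρ
  refine ⟨⟨x_group hr c, ?_⟩, by rw [phi_x hq hK hr, hc]⟩
  rw [sg_x hq hK hr hρ h2 h1, hc, Int.cast_one, one_mul]

theorem long_fix_iff {r : ℕ} (hr : r < 24) (hρ : Data.D4.graph.ρ r = r) {c : K}
    (h : xx r c ∈ (SS).fix) : σ c = c := by
  have hl : ∀ r < 24, Data.D4.graph.ρ r = r → Data.D4.graph.lam r = 1 ∧ Data.D4.graph.ε r = 1 := by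
    decide +kernel
  obtain ⟨h1, h2⟩ := hl r hr hρ
  have e := h.2
  rw [sg_x hq hK hr hρ h2 h1, Int.cast_one, one_mul] at e
  exact xU_inj Data.D4.valid hr e

/-- The orbit element of the fundamental short root. -/
noncomputable def A (t : K) : GL (Data.D4.tbl).I K :=
  Data.D4.tbl.xU K 18 t * (Data.D4.tbl.xU K 13 (Twist.D4.fq hq hK t) *
    Data.D4.tbl.xU K 12 (Twist.D4.fq hq hK (Twist.D4.fq hq hK t)))

/-- The orbit element of the negative fundamental short root. -/
noncomputable def An (t : K) : GL (Data.D4.tbl).I K :=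
  Data.D4.tbl.xU K 5 t * (Data.D4.tbl.xU K 10 (Twist.D4.fq hq hK t) *
    Data.D4.tbl.xU K 11 (Twist.D4.fq hq hK (Twist.D4.fq hq hK t)))

/-- The orbit element of the second short root. -/
noncomputable def B (t : K) : GL (Data.D4.tbl).I K :=
  Data.D4.tbl.xU K 19 t * (Data.D4.tbl.xU K 16 (-Twist.D4.fq hq hK t) *
    Data.D4.tbl.xU K 15 (-Twist.D4.fq hq hK (Twist.D4.fq hq hK t)))

/-- The orbit element of the highest short root. -/
noncomputable def C (t : K) : GL (Data.D4.tbl).I K :=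
  Data.D4.tbl.xU K 21 t * (Data.D4.tbl.xU K 17 (-Twist.D4.fq hq hK t) *
    Data.D4.tbl.xU K 20 (Twist.D4.fq hq hK (Twist.D4.fq hq hK t)))

theorem commX {a b : ℕ} (ha : a < 24) (hb : b < 24) (hne : b ≠ (TT).neg a)
    (h : (TT).commT a b = []) (s t : K) : Commute (xx a s) (xx b t) :=
  commute_xU Data.D4.valid Data.D4.chkComm ha hb hne (by rw [h]; simp) s t

theorem triple_fix {a b c : ℕ} {ea eb ec : ℤ} {u v w : K} (ha : a < 24) (hb : b < 24) (hc : c < 24)
    (hρ : Data.D4.graph.ρ a = b ∧ Data.D4.graph.ρ b = c ∧ Data.D4.graph.ρ c = a)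
    (hε : Data.D4.graph.ε a = ea ∧ Data.D4.graph.ε b = eb ∧ Data.D4.graph.ε c = ec)
    (hl : Data.D4.graph.lam a = 1 ∧ Data.D4.graph.lam b = 1 ∧ Data.D4.graph.lam c = 1)
    (hab : b ≠ (TT).neg a ∧ (TT).commT a b = []) (hac : c ≠ (TT).neg a ∧ (TT).commT a c = [])
    (hu : (ea : K) * σ u = v) (hv : (eb : K) * σ v = w) (hw : (ec : K) * σ w = u) :
    xx a u * (xx b v * xx c w) ∈ (SS).fix := by
  have h1 := x_group ha u
  have h2 := x_group hb v
  have h4 := x_group hc w
  refine ⟨mul_mem h1 (mul_mem h2 h4), ?_⟩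
  rw [(SS).sg_mul h1 (mul_mem h2 h4), (SS).sg_mul h2 h4, sg_x hq hK ha hρ.1 hε.1 hl.1,
    sg_x hq hK hb hρ.2.1 hε.2.1 hl.2.1, sg_x hq hK hc hρ.2.2 hε.2.2 hl.2.2, hu, hv, hw, ← mul_assoc,
    (commX ha hb hab.1 hab.2 u v).mul_right (commX ha hc hac.1 hac.2 u w) |>.eq]

theorem A_fix (t : K) : A hq hK t ∈ (SS).fix :=
  triple_fix hq hK (ea := 1) (eb := 1) (ec := 1) (by norm_num) (by norm_num) (by norm_num)
    (by decide +kernel) (by decide +kernel) (by decide +kernel) (by decide +kernel) (by decide +kernel)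
    (by simp) (by simp) (by simp [h3 hq hK])

theorem An_fix (t : K) : An hq hK t ∈ (SS).fix :=
  triple_fix hq hK (ea := 1) (eb := 1) (ec := 1) (by norm_num) (by norm_num) (by norm_num)
    (by decide +kernel) (by decide +kernel) (by decide +kernel) (by decide +kernel) (by decide +kernel)
    (by simp) (by simp) (by simp [h3 hq hK])

theorem B_fix (t : K) : B hq hK t ∈ (SS).fix :=
  triple_fix hq hK (ea := -1) (eb := 1) (ec := -1) (by norm_num) (by norm_num) (by norm_num)
    (by decide +kernel) (by decide +kernel) (by decide +kernel) (by decide +kernel) (by decide +kernel)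
    (by simp) (by simp) (by simp [h3 hq hK])

theorem C_fix (t : K) : C hq hK t ∈ (SS).fix :=
  triple_fix hq hK (ea := -1) (eb := -1) (ec := 1) (by norm_num) (by norm_num) (by norm_num)
    (by decide +kernel) (by decide +kernel) (by decide +kernel) (by decide +kernel) (by decide +kernel)
    (by simp) (by simp) (by simp [h3 hq hK])

theorem A_phi (t : K) : φ (A hq hK t) = A hq hK (σ t) := by
  simp only [A, map_mul, phi_x hq hK (show 18 < 24 by norm_num), phi_x hq hK (show 13 < 24 by norm_num),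
    phi_x hq hK (show 12 < 24 by norm_num)]

theorem An_phi (t : K) : φ (An hq hK t) = An hq hK (σ t) := by
  simp only [An, map_mul, phi_x hq hK (show 5 < 24 by norm_num), phi_x hq hK (show 10 < 24 by norm_num),
    phi_x hq hK (show 11 < 24 by norm_num)]

/-- A subgroup between the points over the subfield and the whole twisted group. -/
structure Over (H : Subgroup (GL (Data.D4.tbl).I K)) : Prop where
  le : H ≤ (AbSetup.S (Twist.D4.setup hq hK)).fix
  ge : ∀ g ∈ (AbSetup.S (Twist.D4.setup hq hK)).fix, phi hq hK g = g → g ∈ H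

variable {hq hK} {H : Subgroup (GL (Data.D4.tbl).I K)}

theorem Over.long (h : Over hq hK H) {r : ℕ} (hr : r < 24) (hρ : Data.D4.graph.ρ r = r) {c : K}
    (hc : σ c = c) : xx r c ∈ H :=
  h.ge _ (long_fix hq hK hr hρ hc).1 (long_fix hq hK hr hρ hc).2

theorem Over.A_mem (h : Over hq hK H) {c : K} (hc : σ c = c) : A hq hK c ∈ H :=
  h.ge _ (A_fix hq hK c) (by rw [A_phi, hc])

theorem Over.An_mem (h : Over hq hK H) {c : K} (hc : σ c = c) : An hq hK c ∈ H :=
  h.ge _ (An_fix hq hK c) (by rw [An_phi, hc])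

end CfsgLib.KnownA.D4Sub
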