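import Cfsg.Agent.Lib.KnownA.D4Sub.Main
import Cfsg.Agent.Lib.Chevalley.Length

/-!
The points over the subfield with q elements have trivial centralizer in ³D₄(q).
-/

set_option autoImplicit false
set_option maxRecDepth 20000
set_option Elab.async false

namespace CfsgLib.KnownA.D4Sub

open CfsgLib.Chevalley CfsgLib.Chevalley.Tbl
open CfsgLib.KnownB.ParabolicFStar (conj_lead)

variable {K : Type*} [Field K] [Finite K] {q : ℕ} (hq : IsPrimePow q) (hK : Nat.card K = q ^ 3)

local notation "TT" => Data.D4.tbl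
local notation "xx" => Data.D4.tbl.xU K
local notation "σ" => Twist.D4.fq hq hK
local notation "SS" => AbSetup.S (Twist.D4.setup hq hK)
local notation "φ" => phi hq hK
local notation "UU" => Tbl.rootGen Data.D4.tbl K (fun r => 12 ≤ r)

/-- Commuting with every conjugate of the long root element by a point over the subfield. -/
def CommAll (d : GL (Data.D4.tbl).I K) : Prop :=
  ∀ m ∈ (AbSetup.S (Twist.D4.setup hq hK)).fix, phi hq hK m = m →
    Commute d (m * Data.D4.tbl.xU K 23 1 * m⁻¹)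

variable {hq hK}

theorem phi_n14 : φ (n14 : GL (TT).I K) = n14 := phi_n hq hK (by norm_num)

theorem phi_nA : φ (nA : GL (TT).I K) = nA := by
  rw [nA, map_mul, map_mul, phi_n hq hK (by norm_num), phi_n hq hK (by norm_num), phi_n hq hK (by norm_num)]

theorem CommAll.conj {d m : GL (TT).I K} (hd : CommAll hq hK d) (hm : m ∈ (SS).fix) (hmφ : φ m = m) :
    CommAll hq hK (m⁻¹ * d * m) := by
  intro m' hm' hm'φ
  have h := hd (m * m') (mul_mem hm hm') (by rw [map_mul, hmφ, hm'φ])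
  have e : m' * xx 23 1 * m'⁻¹ = m⁻¹ * (m * m' * xx 23 1 * (m * m')⁻¹) * m := by group
  rw [e]
  show _ = _
  calc m⁻¹ * d * m * (m⁻¹ * (m * m' * xx 23 1 * (m * m')⁻¹) * m)
      = m⁻¹ * (d * (m * m' * xx 23 1 * (m * m')⁻¹)) * m := by group
    _ = _ := by rw [h.eq]; group

theorem CommAll.roots {d : GL (TT).I K} (hd : CommAll hq hK d) :
    Commute d (xx 23 1) ∧ Commute d (xx 22 1) ∧ Commute d (xx 14 1) ∧
      Commute d (A hq hK 1 * xx 14 1 * (A hq hK 1)⁻¹) := by
  have e22 : n14 * xx 23 (-1) * n14⁻¹ = xx 22 (1 : K) := by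
    rw [n14_x (s' := 22) (e := -1) (by norm_num) (by decide +kernel) (by decide +kernel), mul_inv_cancel_right]
    simp
  have e14 : (nA * n14) * xx 23 (-1) * (nA * n14)⁻¹ = xx 14 (1 : K) := by
    rw [show (nA * n14) * xx 23 (-1) * (nA * n14)⁻¹ = nA * (n14 * xx 23 (-1) * n14⁻¹) * nA⁻¹ by group, e22,
      nA_x (s₁ := (TT).refl 3 22) (s₂ := (TT).refl 2 ((TT).refl 3 22)) (s₃ := 14) (e := 1) (by norm_num)
        (by decide +kernel) (by decide +kernel), mul_inv_cancel_right]
    simp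
  have key : ∀ m ∈ (SS).fix, φ m = m → Commute d (m * xx 23 (-1) * m⁻¹) := fun m hm hmφ => by
    have := (hd m hm hmφ).inv_right
    rwa [show (m * xx 23 1 * m⁻¹)⁻¹ = m * (xx 23 (1 : K))⁻¹ * m⁻¹ by group, x_inv (by norm_num)] at this
  refine ⟨?_, ?_, ?_, ?_⟩
  · simpa using hd 1 (one_mem _) (map_one _)
  · rw [← e22]; exact key _ (n14_fix hq hK) phi_n14
  · rw [← e14]
    exact key _ (mul_mem (nA_fix hq hK) (n14_fix hq hK)) (by rw [map_mul, phi_n14, phi_nA])
  · rw [← e14, show A hq hK 1 * (nA * n14 * xx 23 (-1) * (nA * n14)⁻¹) * (A hq hK 1)⁻¹ =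
      (A hq hK 1 * (nA * n14)) * xx 23 (-1) * (A hq hK 1 * (nA * n14))⁻¹ by group]
    exact key _ (mul_mem (A_fix hq hK 1) (mul_mem (nA_fix hq hK) (n14_fix hq hK)))
      (by rw [map_mul, map_mul, phi_n14, phi_nA, A_phi, map_one (Twist.D4.fq hq hK)])

theorem mem_borel_of_commute {d : GL (TT).I K} (hd : CommAll hq hK d) (hf : d ∈ (SS).fix) :
    d ∈ (TT).datum.borelSubgroup K := by
  have hh : (TT).half = 12 := by decide +kernel
  obtain ⟨h23, h22, -, -⟩ := hd.roots
  obtain ⟨a, ha, haf, n, hnN, hnf, w, hw, hm, u, hu, huf, e⟩ := (SS).fix_canonical hf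
  rw [hh] at ha
  have huU : u ∈ UU := rootGen_mono (fun s _ ⟨_, hp, _⟩ => hh ▸ hp) hu
  obtain ⟨y, t, hy, r, hr, -, eu⟩ := exists_shape hq hK huU huf
  have aB : a ∈ (TT).datum.borelSubgroup K :=
    Subgroup.mem_sup_left (by rw [posUnipotent_rootGen Data.D4.valid, hh]; exact ha)
  -- images of the two top roots
  obtain ⟨c, hcj⟩ := hm.conj ⟨23, by decide +kernel⟩
  have hn23 : n * xx 23 1 * n⁻¹ = xx (w ⟨23, by decide +kernel⟩).val (c : K) := by
    rw [(hcj 1).1, mul_inv_cancel_right, mul_one]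
  have e23 : xx (w ⟨23, by decide +kernel⟩).val (c : K) = xx 23 1 := by
    rw [← hn23]
    have c1 : Commute (xx 23 1) u := top_commute huU 1
    have c2 : Commute (xx 23 1) a := top_commute ha 1
    calc n * xx 23 1 * n⁻¹ = a⁻¹ * (d * xx 23 1 * d⁻¹) * a := by
          rw [e]
          calc n * xx 23 1 * n⁻¹ = n * (u * xx 23 1 * u⁻¹) * n⁻¹ := by rw [← c1.eq, mul_inv_cancel_right]
            _ = _ := by group
      _ = _ := by rw [h23.eq, mul_inv_cancel_right, mul_assoc, c2.eq, inv_mul_cancel_left]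
  obtain ⟨c', hcj'⟩ := hm.conj ⟨22, by decide +kernel⟩
  have hn22 : n * xx 22 1 * n⁻¹ = xx (w ⟨22, by decide +kernel⟩).val (c' : K) := by
    rw [(hcj' 1).1, mul_inv_cancel_right, mul_one]
  have hneg : ∀ (r : ℕ) (x : K) (z : GL (TT).I K), r < 24 → z ∈ UU → x ≠ 0 → xx r x = z → 12 ≤ r := by
    intro r x z hr hz hx he
    by_contra hlt
    have h1 : xx r x ∈ (TT).datum.borelSubgroup K ⊓ (TT).datum.negUnipotent K := by
      refine ⟨Subgroup.mem_sup_left ?_, ?_⟩
      · rw [posUnipotent_rootGen Data.D4.valid, hh, he]; exact hz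
      · rw [negUnipotent_rootGen Data.D4.valid, hh]
        exact xU_mem_rootGen (P := fun r => r < 12) hr (by omega) x
    rw [borel_inf_neg Data.D4.valid, Subgroup.mem_bot, ← x_zero hr] at h1
    exact hx (xU_inj Data.D4.valid hr h1)
  have huniq : ∀ (r : ℕ) (x : K) (z : GL (TT).I K), r < 24 → 12 ≤ r → x ≠ 0 →
      z ∈ (TT).rootGen K (fun s => r + 1 ≤ s) → xx r x = z → False := by
    intro r x z hr hp hx hz he
    exact hx (xU_mul_inj Data.D4.valid Data.D4.chkComm (k := r) (by rw [hh]; exact hp) hr (one_mem _) hz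
      (t' := 0) (by rw [mul_one, x_zero hr, one_mul]; exact he)).1
  have w23 : (w ⟨23, by decide +kernel⟩).val = 23 := by
    have h1 := hneg _ _ _ (w ⟨23, by decide +kernel⟩).2 (x_U (by norm_num) (by norm_num) 1) c.ne_zero e23
    by_contra hne
    have hlt : (w ⟨23, by decide +kernel⟩).val < 24 := (w ⟨23, by decide +kernel⟩).2
    exact huniq _ _ _ hlt h1 c.ne_zero
      (xU_mem_rootGen (P := fun s => (w ⟨23, by decide +kernel⟩).val + 1 ≤ s)
        (show 23 < (TT).n by decide +kernel) (show _ ≤ 23 by omega) _) e23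
  have hAU : A hq hK t ∈ UU := mul_mem (x_U (by norm_num) (by norm_num) _)
    (mul_mem (x_U (by norm_num) (by norm_num) _) (x_U (by norm_num) (by norm_num) _))
  have hAr : A hq hK t * r ∈ (TT).rootGen K (· ∈ [12, 13, 15, 16, 17, 18, 19, 20, 21, 22, 23]) := by
    refine mul_mem ?_ (rootGen_mono (fun s _ h => by revert s; decide) hr)
    exact mul_mem (xU_mem_rootGen (show 18 < (TT).n by decide +kernel) (by simp) _)
      (mul_mem (xU_mem_rootGen (show 13 < (TT).n by decide +kernel) (by simp) _)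
        (xU_mem_rootGen (show 12 < (TT).n by decide +kernel) (by simp) _))
  have hu22 : ∃ v, u * xx 22 1 * u⁻¹ = xx 22 1 * xx 23 v := by
    refine ⟨y, ?_⟩
    calc u * xx 22 1 * u⁻¹ = xx 14 y * (A hq hK t * r * xx 22 1 * (A hq hK t * r)⁻¹) * (xx 14 y)⁻¹ := by
          rw [eu]; group
      _ = xx 14 y * xx 22 1 * (xx 14 y)⁻¹ := by rw [← (top22_commute hAr 1).eq, mul_inv_cancel_right]
      _ = _ := by
        rw [x_inv (by norm_num)]
        calc xx 14 y * xx 22 1 * xx 14 (-y) = xx 14 y * (xx 22 1 * xx 14 (-y)) := mul_assoc _ _ _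
          _ = xx 22 1 * xx 23 y := by
            rw [sw_22_14 (1 : K) (-y), ← mul_assoc (xx 14 y), x_add (by norm_num), add_neg_cancel,
              x_zero (by norm_num), one_mul]
            simp
  obtain ⟨v, hv⟩ := hu22
  have e22 : xx (w ⟨22, by decide +kernel⟩).val (c' : K) = a⁻¹ * xx 22 1 * a * (n * xx 23 v * n⁻¹)⁻¹ := by
    rw [← hn22]
    have h1 : a * n * (u * xx 22 1 * u⁻¹) * n⁻¹ * a⁻¹ = xx 22 1 := by
      calc _ = a * n * u * xx 22 1 * (a * n * u)⁻¹ := by group
        _ = _ := by rw [← e, h22.eq, mul_inv_cancel_right]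
    rw [hv] at h1
    conv_rhs => rw [← h1]
    group
  have hn23v : n * xx 23 v * n⁻¹ ∈ (TT).rootGen K (fun s => 23 ≤ s) := by
    rw [(hcj v).1, mul_inv_cancel_right]
    exact xU_mem_rootGen (P := fun s => 23 ≤ s) (w _).2 (by rw [w23]) _
  have ha22 : a⁻¹ * xx 22 1 * a ∈ (TT).rootGen K (fun s => 22 ≤ s) := by
    have hN : UU ≤ Subgroup.normalizer ((TT).rootGen K (fun s => 22 ≤ s) : Set (GL (TT).I K)) :=
      rootGen_le fun r hr hp x => xU_mem_normalizer_ge Data.D4.valid Data.D4.chkComm hr (by rw [hh]; exact hp)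
        (by rw [hh]; norm_num) x
    simpa using (Subgroup.mem_normalizer_iff.mp (hN (inv_mem ha)) _).mp
      (xU_mem_rootGen (P := fun s => 22 ≤ s) (show 22 < (TT).n by decide +kernel) le_rfl 1)
  have hz22 : xx (w ⟨22, by decide +kernel⟩).val (c' : K) ∈ (TT).rootGen K (fun s => 22 ≤ s) := by
    rw [e22]
    exact mul_mem ha22 (inv_mem (rootGen_mono (fun s _ (h : 23 ≤ s) => by omega) hn23v))
  have w22 : (w ⟨22, by decide +kernel⟩).val = 22 := by
    have hlt : (w ⟨22, by decide +kernel⟩).val < 24 := (w ⟨22, by decide +kernel⟩).2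
    have h1 := hneg _ _ _ hlt (rootGen_mono (fun s _ (h : 22 ≤ s) => le_trans (by norm_num) h) hz22) c'.ne_zero rfl
    have h2 : (w ⟨22, by decide +kernel⟩).val ≠ 23 := fun e0 => by
      have := w.injective (Fin.ext (e0.trans w23.symm) :
        w ⟨22, by decide +kernel⟩ = w ⟨23, by decide +kernel⟩)
      exact absurd (congrArg Fin.val this) (by norm_num)
    by_contra hne
    exact huniq _ _ _ hlt h1 c'.ne_zero (rootGen_mono (fun s _ (h : 22 ≤ s) => by omega) hz22) rfl
  -- the Weyl element is trivial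
  have hV := (SS).valid
  have hWP : w ∈ (TT).WP hV := ((SS).mem_W1_iff.mp hw).1
  have hlin : ∀ (s : Fin (TT).n) (j : ℕ), j < 4 →
      (TT).co (w s).val j = ∑ k : Fin (TT).rank, (TT).co s.val k * (TT).co (w ((TT).simpF hV k)).val j :=
    fun s j hj => WP_linear hV hWP s hj
  have hsimp : (TT).simple 0 = 18 ∧ (TT).simple 1 = 14 ∧ (TT).simple 2 = 13 ∧ (TT).simple 3 = 12 := by
    decide +kernel
  have hS : ∀ (s : Fin (TT).n) (j : ℕ), j < 4 → (TT).co (w s).val j =
      (TT).co s.val 0 * (TT).co (w ⟨18, by decide +kernel⟩).val j +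
      (TT).co s.val 1 * (TT).co (w ⟨14, by decide +kernel⟩).val j +
      (TT).co s.val 2 * (TT).co (w ⟨13, by decide +kernel⟩).val j +
      (TT).co s.val 3 * (TT).co (w ⟨12, by decide +kernel⟩).val j := by
    intro s j hj
    rw [hlin s j hj]
    show ∑ k : Fin 4, _ = _
    rw [Fin.sum_univ_four]
    rfl
  have hρ : ∀ s : Fin (TT).n, Data.D4.graph.ρ (w s).val = (w ((SS).ρ s)).val := by
    intro s
    have h1 := ((SS).mem_W1_iff.mp hw).2
    rw [mul_inv_eq_iff_eq_mul] at h1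
    exact congrArg Fin.val (congrArg (fun p : Equiv.Perm (Fin (TT).n) => p s) h1)
  have hr13 : (w ⟨13, by decide +kernel⟩).val = Data.D4.graph.ρ (w ⟨18, by decide +kernel⟩).val := by
    rw [hρ, show (SS).ρ ⟨18, by decide +kernel⟩ = (⟨13, by decide +kernel⟩ : Fin (TT).n) from
      Fin.ext (show Data.D4.graph.ρ 18 = 13 by decide +kernel)]
  have hr12 : (w ⟨12, by decide +kernel⟩).val = Data.D4.graph.ρ (Data.D4.graph.ρ (w ⟨18, by decide +kernel⟩).val) := by
    rw [← hr13, hρ, show (SS).ρ ⟨13, by decide +kernel⟩ = (⟨12, by decide +kernel⟩ : Fin (TT).n) from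
      Fin.ext (show Data.D4.graph.ρ 13 = 12 by decide +kernel)]
  have k23 : (TT).co 23 0 = 1 ∧ (TT).co 23 1 = 2 ∧ (TT).co 23 2 = 1 ∧ (TT).co 23 3 = 1 ∧
      (TT).co 22 0 = 1 ∧ (TT).co 22 1 = 1 ∧ (TT).co 22 2 = 1 ∧ (TT).co 22 3 = 1 := by decide +kernel
  obtain ⟨a0, a1, a2, a3, b0, b1, b2, b3⟩ := k23
  have main : ∀ j < 4,
      (TT).co (w ⟨14, by decide +kernel⟩).val j = (TT).co 14 j ∧
      (TT).co (w ⟨18, by decide +kernel⟩).val j + (TT).co (Data.D4.graph.ρ (w ⟨18, by decide +kernel⟩).val) j +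
        (TT).co (Data.D4.graph.ρ (Data.D4.graph.ρ (w ⟨18, by decide +kernel⟩).val)) j =
        (TT).co 22 j - (TT).co 14 j := by
    intro j hj
    have e1 := hS ⟨23, by decide +kernel⟩ j hj
    have e2 := hS ⟨22, by decide +kernel⟩ j hj
    simp only [w23, w22, a0, a1, a2, a3, b0, b1, b2, b3, hr13, hr12] at e1 e2
    have k : ∀ j < 4, (TT).co 23 j = (TT).co 22 j + (TT).co 14 j := by decide +kernel
    have := k j hj
    constructor <;> omega
  have w14 : 12 ≤ (w ⟨14, by decide +kernel⟩).val := by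
    have k : ∀ r < 24, (∀ j < 4, (TT).co r j = (TT).co 14 j) → 12 ≤ r := by decide +kernel
    exact k _ (w _).2 fun j hj => (main j hj).1
  have w18 : 12 ≤ (w ⟨18, by decide +kernel⟩).val ∧ 12 ≤ Data.D4.graph.ρ (w ⟨18, by decide +kernel⟩).val ∧
      12 ≤ Data.D4.graph.ρ (Data.D4.graph.ρ (w ⟨18, by decide +kernel⟩).val) := by
    have k : ∀ r < 24, (∀ j < 4, (TT).co r j + (TT).co (Data.D4.graph.ρ r) j +
        (TT).co (Data.D4.graph.ρ (Data.D4.graph.ρ r)) j = (TT).co 22 j - (TT).co 14 j) →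
        12 ≤ r ∧ 12 ≤ Data.D4.graph.ρ r ∧ 12 ≤ Data.D4.graph.ρ (Data.D4.graph.ρ r) := by decide +kernel
    exact k _ (w _).2 fun j hj => (main j hj).2
  have hw1 : w = 1 := by
    refine eq_one_of_pos hV hWP fun i => ?_
    rw [hh]
    have hcase : ∀ i : Fin 4, i = 0 ∨ i = 1 ∨ i = 2 ∨ i = 3 := by decide
    rcases hcase i with rfl | rfl | rfl | rfl
    · exact w18.1
    · exact w14
    · show 12 ≤ (w ⟨13, _⟩).val
      rw [hr13]; exact w18.2.1
    · show 12 ≤ (w ⟨12, _⟩).val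
      rw [hr12]; exact w18.2.2
  subst hw1
  have hnd := mem_diag_of_mono_one Data.D4.valid hnN hm
  rw [e]
  refine mul_mem (mul_mem aB (Subgroup.mem_sup_right hnd)) (Subgroup.mem_sup_left ?_)
  rw [posUnipotent_rootGen Data.D4.valid, hh]
  exact huU

theorem eq_one_of_commAll {d : GL (TT).I K} (hd : CommAll hq hK d) (hf : d ∈ (SS).fix) : d = 1 := by
  have hT := Data.D4.valid
  have hh : (TT).half = 12 := by decide +kernel
  set w0 : GL (TT).I K := n14 * nA * (n14 * nA) * (n14 * nA) with hw0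
  have hwf : w0 ∈ (SS).fix := by
    have := mul_mem (n14_fix hq hK) (nA_fix hq hK)
    exact mul_mem (mul_mem this this) this
  have hwφ : φ w0 = w0 := by simp only [w0, map_mul, phi_n14, phi_nA]
  have hdB := mem_borel_of_commute hd hf
  have hdB' := mem_borel_of_commute (hd.conj hwf hwφ) (mul_mem (mul_mem (inv_mem hwf) hf) hwf)
  have h1 := mono_n14 (K := K)
  have hA := mono_nA (K := K)
  have hm : (TT).Mono w0 _ := ((h1.mul hA).mul (h1.mul hA)).mul (h1.mul hA)
  obtain ⟨a', ha', χ', hχ', e'⟩ := (mem_borel_iff hT).mp hdB'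
  rw [posUnipotent_rootGen hT] at ha'
  have hwN : w0 ∈ (TT).datum.monomialSubgroup K := by
    have k : ∀ r < 24, (TT).nU K r 1 ∈ (TT).datum.monomialSubgroup K := fun r hr =>
      Twist.nU_mem_N (SS) ⟨r, hr⟩ one_ne_zero
    have := mul_mem (k 14 (by norm_num)) (mul_mem (k 18 (by norm_num)) (mul_mem (k 13 (by norm_num))
      (k 12 (by norm_num))))
    exact mul_mem (mul_mem this this) this
  have hdd : d ∈ (TT).datum.negUnipotent K ⊔ (TT).datum.diagonalSubgroup K := by
    have ed : d = w0 * a' * w0⁻¹ * (w0 * χ' * w0⁻¹) := by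
      calc d = w0 * (w0⁻¹ * d * w0) * w0⁻¹ := by group
        _ = _ := by rw [e']; group
    rw [ed]
    refine mul_mem (Subgroup.mem_sup_left ?_) (Subgroup.mem_sup_right (conj_diag hT hwN hχ'))
    rw [negUnipotent_rootGen hT]
    refine conj_mem_rootGen hT hm (fun s hs => ?_) ha'
    rw [hh] at hs ⊢
    have k : ∀ s < 24, 12 ≤ s →
        (fun x => (TT).refl 1 ((TT).refl 0 ((TT).refl 2 ((TT).refl 3 x))))
          ((fun x => (TT).refl 1 ((TT).refl 0 ((TT).refl 2 ((TT).refl 3 x))))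
            ((fun x => (TT).refl 1 ((TT).refl 0 ((TT).refl 2 ((TT).refl 3 x)))) s)) < 12 := by decide +kernel
    exact k s.val s.2 hs
  have hdiag : d ∈ (TT).datum.diagonalSubgroup K := by
    rw [← borel_inf_negDiag hT]
    exact ⟨hdB, hdd⟩
  obtain ⟨χ, hχ, rfl⟩ := diag_exists_char hT hdiag
  obtain ⟨-, h22, h14, hV⟩ := hd.roots
  have hχfix : ∀ s < 24, Commute ((TT).dU χ : GL (TT).I K) (xx s 1) → χ s = 1 := by
    intro s hs hc
    have k := dU_conj_X (F := K) hT hχ (r := s) hs 1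
    rw [hc.eq, mul_one] at k
    exact Units.ext (xU_inj hT hs (mul_right_cancel k)).symm
  have c14 := hχfix 14 (by norm_num) h14
  have c22 := hχfix 22 (by norm_num) h22
  -- the short coordinates of a conjugate
  have h1' : σ (1 : K) = 1 := map_one _
  have hW : Commute ((TT).dU χ : GL (TT).I K)
      (xx 14 (-1) * (A hq hK 1 * xx 14 1 * (A hq hK 1)⁻¹)) :=
    (show Commute ((TT).dU χ : GL (TT).I K) (xx 14 (-1)) by
      have := h14.inv_right; rwa [x_inv (by norm_num)] at this).mul_right hV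
  rw [W_eq hq hK h1'] at hW
  simp only [map_one, mul_one, B, C, map_neg] at hW
  have hsort : ∀ (v : ℕ → K), xx 19 (v 19) * (xx 16 (v 16) * xx 15 (v 15)) * (xx 21 (v 21) * (xx 17 (v 17) * xx 20 (v 20))) *
      xx 22 (v 22) * xx 23 (v 23) =
      xx 15 (v 15) * (xx 16 (v 16) * (xx 17 (v 17) * (xx 19 (v 19) * (xx 20 (v 20) * (xx 21 (v 21) *
        (xx 22 (v 22) * xx 23 (-(v 17 * v 19) + v 23))))))) := fun v => by
    simp (discharger := omega) only [mul_assoc, sw_16_15, sw_16_15', sw_17_15, sw_17_15', sw_17_16, sw_17_16',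
      sw_19_15, sw_19_15', sw_19_16, sw_19_16', sw_19_17, sw_19_17', sw_20_15, sw_20_15', sw_20_16, sw_20_16',
      sw_20_17, sw_20_17', sw_20_19, sw_20_19', sw_21_15, sw_21_15', sw_21_16, sw_21_16', sw_21_17, sw_21_17',
      sw_21_19, sw_21_19', sw_21_20, sw_21_20', sw_22_17, sw_22_17', sw_22_19, sw_22_19', sw_22_20, sw_22_20',
      sw_22_21, sw_22_21', sw_23_16', sw_23_17', sw_23_19', sw_23_20', sw_23_21', sw_23_22', sw_23_22,
      x_add, x_add']
  have hconj : ∀ {r : ℕ}, r < 24 → ∀ (x : K) (z : GL (TT).I K),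
      (TT).dU χ * (xx r x * z) * ((TT).dU χ)⁻¹ = xx r ((χ r : K) * x) * ((TT).dU χ * z * ((TT).dU χ)⁻¹) := by
    intro r hr x z
    rw [show xx r ((χ r : K) * x) = (TT).dU χ * xx r x * ((TT).dU χ)⁻¹ by
      rw [dU_conj_X hT hχ hr, mul_inv_cancel_right]]
    group
  have hWv := hW.eq
  rw [← mul_inv_eq_iff_eq_mul] at hWv
  let v' : ℕ → K := fun r => if r = 16 ∨ r = 15 ∨ r = 17 then 1 else -1
  have e1 := hsort v'
  simp only [v', Nat.reduceEqDiff, or_self, or_false, false_or, or_true, true_or, if_true, if_false] at e1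
  simp only [neg_neg] at hWv
  rw [e1, hconj (by norm_num), hconj (by norm_num), hconj (by norm_num), hconj (by norm_num)] at hWv
  have hge : ∀ (r : ℕ) (x : K), 12 ≤ r → r < 24 → ∀ k ≤ r, xx r x ∈ (TT).rootGen K (fun s => k ≤ s) :=
    fun r x _ hr k hk => xU_mem_rootGen (P := fun s => k ≤ s) hr hk x
  have hN : ∀ (k : ℕ) (z : GL (TT).I K), z ∈ (TT).rootGen K (fun s => k ≤ s) →
      (TT).dU χ * z * ((TT).dU χ)⁻¹ ∈ (TT).rootGen K (fun s => k ≤ s) := fun k z hz =>
    (Subgroup.mem_normalizer_iff.mp (diag_le_normalizer hT _ hdiag) z).mp hz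
  have t20 : ∀ k ≤ 20, ∀ a b c e : K,
      xx 20 a * (xx 21 b * (xx 22 c * xx 23 e)) ∈ (TT).rootGen K (fun s => k ≤ s) := fun k hk a b c e =>
    mul_mem (hge 20 a (by norm_num) (by norm_num) k hk) (mul_mem (hge 21 b (by norm_num) (by norm_num) k (by omega))
      (mul_mem (hge 22 c (by norm_num) (by norm_num) k (by omega)) (hge 23 e (by norm_num) (by norm_num) k (by omega))))
  obtain ⟨k15, hWv⟩ := xU_mul_inj hT Data.D4.chkComm (k := 15) (by rw [hh]; norm_num) (by decide +kernel)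
    (mul_mem (hge 16 _ (by norm_num) (by norm_num) _ (by norm_num)) (mul_mem (hge 17 _ (by norm_num) (by norm_num) _ (by norm_num))
      (mul_mem (hge 19 _ (by norm_num) (by norm_num) _ (by norm_num)) (hN _ _ (t20 _ (by norm_num) _ _ _ _)))))
    (mul_mem (hge 16 _ (by norm_num) (by norm_num) _ (by norm_num)) (mul_mem (hge 17 _ (by norm_num) (by norm_num) _ (by norm_num))
      (mul_mem (hge 19 _ (by norm_num) (by norm_num) _ (by norm_num)) (t20 _ (by norm_num) _ _ _ _)))) hWv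
  obtain ⟨k16, hWv⟩ := xU_mul_inj hT Data.D4.chkComm (k := 16) (by rw [hh]; norm_num) (by decide +kernel)
    (mul_mem (hge 17 _ (by norm_num) (by norm_num) _ (by norm_num))
      (mul_mem (hge 19 _ (by norm_num) (by norm_num) _ (by norm_num)) (hN _ _ (t20 _ (by norm_num) _ _ _ _))))
    (mul_mem (hge 17 _ (by norm_num) (by norm_num) _ (by norm_num))
      (mul_mem (hge 19 _ (by norm_num) (by norm_num) _ (by norm_num)) (t20 _ (by norm_num) _ _ _ _))) hWv
  obtain ⟨-, hWv⟩ := xU_mul_inj hT Data.D4.chkComm (k := 17) (by rw [hh]; norm_num) (by decide +kernel)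
    (mul_mem (hge 19 _ (by norm_num) (by norm_num) _ (by norm_num)) (hN _ _ (t20 _ (by norm_num) _ _ _ _)))
    (mul_mem (hge 19 _ (by norm_num) (by norm_num) _ (by norm_num)) (t20 _ (by norm_num) _ _ _ _)) hWv
  obtain ⟨k19, -⟩ := xU_mul_inj hT Data.D4.chkComm (k := 19) (by rw [hh]; norm_num) (by decide +kernel)
    (hN _ _ (t20 _ (by norm_num) _ _ _ _)) (t20 _ (by norm_num) _ _ _ _) hWv
  have s15 : χ 15 = χ 12 * χ 14 := by
    refine hχ.add 12 (by decide +kernel) 14 (by decide +kernel) 15 1 (by decide +kernel)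
  have s16 : χ 16 = χ 13 * χ 14 := by
    refine hχ.add 13 (by decide +kernel) 14 (by decide +kernel) 16 1 (by decide +kernel)
  have s19 : χ 19 = χ 14 * χ 18 := by
    refine hχ.add 14 (by decide +kernel) 18 (by decide +kernel) 19 1 (by decide +kernel)
  refine dU_eq_one_of_simple hT hχ fun i hi => ?_
  have hcase : ∀ i < 4, i = 0 ∨ i = 1 ∨ i = 2 ∨ i = 3 := by omega
  rcases hcase i hi with rfl | rfl | rfl | rfl
  · rw [show (TT).simple 0 = 18 by decide +kernel]
    exact Units.ext (by simpa [s19, c14] using k19)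
  · rw [show (TT).simple 1 = 14 by decide +kernel]; exact c14
  · rw [show (TT).simple 2 = 13 by decide +kernel]
    exact Units.ext (by simpa [s16, c14] using k16)
  · rw [show (TT).simple 3 = 12 by decide +kernel]
    exact Units.ext (by simpa [s15, c14] using k15)

end CfsgLib.KnownA.D4Sub
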