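import Cfsg.Agent.Lib.Chevalley.RootGen
import Cfsg.Agent.Lib.Chevalley.Data.D4
import Cfsg.Agent.Lib.Chevalley.Data.D4Comm
import Cfsg.Agent.Lib.Chevalley.Data.StCerts

/-!
Collection rules for the positive roots of type D₄ in any characteristic.
-/

set_option autoImplicit false
set_option maxRecDepth 20000
set_option Elab.async false

namespace CfsgLib.KnownA.D4Sub

open CfsgLib.Chevalley CfsgLib.Chevalley.Tbl

variable {K : Type*} [Field K]

local notation "xx" => Data.D4.tbl.xU K

theorem sw_one {s r c : ℕ} {N : ℤ} (hs : s < 24) (hr : r < 24) (hne : r ≠ s)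
    (hneg : r ≠ Data.D4.tbl.neg s) (hc : Data.D4.tbl.commT s r = [(c, N, 1, 1)]) (u t : K) :
    xx r u * xx s t = xx s t * (xx r u * xx c (-(N : K) * (t * u))) := by
  rw [comm_xU Data.D4.valid Data.D4.chkComm hs hr hne hneg, hc]
  simp [mul_assoc]

theorem sw_zero {s r : ℕ} (hs : s < 24) (hr : r < 24) (hne : r ≠ s)
    (hneg : r ≠ Data.D4.tbl.neg s) (hc : Data.D4.tbl.commT s r = []) (u t : K) :
    xx r u * xx s t = xx s t * xx r u := by
  rw [comm_xU Data.D4.valid Data.D4.chkComm hs hr hne hneg, hc]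
  simp

theorem x_add {r : ℕ} (hr : r < 24) (u v : K) : xx r u * xx r v = xx r (u + v) :=
  xU_add Data.D4.valid hr u v

theorem x_add' {r : ℕ} (hr : r < 24) (u v : K) (z : GL Data.D4.tbl.I K) :
    xx r u * (xx r v * z) = xx r (u + v) * z := by rw [← mul_assoc, x_add hr]

theorem x_zero {r : ℕ} (hr : r < 24) : xx r (0 : K) = 1 := xU_zero Data.D4.valid hr

theorem x_inv {r : ℕ} (hr : r < 24) (t : K) : (xx r t)⁻¹ = xx r (-t) := xU_inv Data.D4.valid hr t

theorem sw_13_12 (u t : K) : xx 13 u * xx 12 t = xx 12 t * xx 13 u :=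
  sw_zero (by norm_num) (by norm_num) (by norm_num) (by decide +kernel) (by decide +kernel) u t

theorem sw_13_12' (u t : K) (z : GL Data.D4.tbl.I K) :
    xx 13 u * (xx 12 t * z) = xx 12 t * (xx 13 u * z) := by
  rw [← mul_assoc, sw_13_12, mul_assoc]

theorem sw_14_12 (u t : K) : xx 14 u * xx 12 t = xx 12 t * (xx 14 u * xx 15 (-(t * u))) := by
  simpa using sw_one (c := 15) (N := 1) (by norm_num) (by norm_num) (by norm_num) (by decide +kernel) (by decide +kernel) u t

theorem sw_14_12' (u t : K) (z : GL Data.D4.tbl.I K) :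
    xx 14 u * (xx 12 t * z) = xx 12 t * (xx 14 u * (xx 15 (-(t * u)) * z)) := by
  rw [← mul_assoc, sw_14_12]; simp only [mul_assoc]

theorem sw_14_13 (u t : K) : xx 14 u * xx 13 t = xx 13 t * (xx 14 u * xx 16 (-(t * u))) := by
  simpa using sw_one (c := 16) (N := 1) (by norm_num) (by norm_num) (by norm_num) (by decide +kernel) (by decide +kernel) u t

theorem sw_14_13' (u t : K) (z : GL Data.D4.tbl.I K) :
    xx 14 u * (xx 13 t * z) = xx 13 t * (xx 14 u * (xx 16 (-(t * u)) * z)) := by
  rw [← mul_assoc, sw_14_13]; simp only [mul_assoc]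

theorem sw_15_12 (u t : K) : xx 15 u * xx 12 t = xx 12 t * xx 15 u :=
  sw_zero (by norm_num) (by norm_num) (by norm_num) (by decide +kernel) (by decide +kernel) u t

theorem sw_15_12' (u t : K) (z : GL Data.D4.tbl.I K) :
    xx 15 u * (xx 12 t * z) = xx 12 t * (xx 15 u * z) := by
  rw [← mul_assoc, sw_15_12, mul_assoc]

theorem sw_15_13 (u t : K) : xx 15 u * xx 13 t = xx 13 t * (xx 15 u * xx 17 (-(t * u))) := by
  simpa using sw_one (c := 17) (N := 1) (by norm_num) (by norm_num) (by norm_num) (by decide +kernel) (by decide +kernel) u t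

theorem sw_15_13' (u t : K) (z : GL Data.D4.tbl.I K) :
    xx 15 u * (xx 13 t * z) = xx 13 t * (xx 15 u * (xx 17 (-(t * u)) * z)) := by
  rw [← mul_assoc, sw_15_13]; simp only [mul_assoc]

theorem sw_15_14 (u t : K) : xx 15 u * xx 14 t = xx 14 t * xx 15 u :=
  sw_zero (by norm_num) (by norm_num) (by norm_num) (by decide +kernel) (by decide +kernel) u t

theorem sw_15_14' (u t : K) (z : GL Data.D4.tbl.I K) :
    xx 15 u * (xx 14 t * z) = xx 14 t * (xx 15 u * z) := by
  rw [← mul_assoc, sw_15_14, mul_assoc]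

theorem sw_16_12 (u t : K) : xx 16 u * xx 12 t = xx 12 t * (xx 16 u * xx 17 (-(t * u))) := by
  simpa using sw_one (c := 17) (N := 1) (by norm_num) (by norm_num) (by norm_num) (by decide +kernel) (by decide +kernel) u t

theorem sw_16_12' (u t : K) (z : GL Data.D4.tbl.I K) :
    xx 16 u * (xx 12 t * z) = xx 12 t * (xx 16 u * (xx 17 (-(t * u)) * z)) := by
  rw [← mul_assoc, sw_16_12]; simp only [mul_assoc]

theorem sw_16_13 (u t : K) : xx 16 u * xx 13 t = xx 13 t * xx 16 u :=
  sw_zero (by norm_num) (by norm_num) (by norm_num) (by decide +kernel) (by decide +kernel) u t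

theorem sw_16_13' (u t : K) (z : GL Data.D4.tbl.I K) :
    xx 16 u * (xx 13 t * z) = xx 13 t * (xx 16 u * z) := by
  rw [← mul_assoc, sw_16_13, mul_assoc]

theorem sw_16_14 (u t : K) : xx 16 u * xx 14 t = xx 14 t * xx 16 u :=
  sw_zero (by norm_num) (by norm_num) (by norm_num) (by decide +kernel) (by decide +kernel) u t

theorem sw_16_14' (u t : K) (z : GL Data.D4.tbl.I K) :
    xx 16 u * (xx 14 t * z) = xx 14 t * (xx 16 u * z) := by
  rw [← mul_assoc, sw_16_14, mul_assoc]

theorem sw_16_15 (u t : K) : xx 16 u * xx 15 t = xx 15 t * xx 16 u :=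
  sw_zero (by norm_num) (by norm_num) (by norm_num) (by decide +kernel) (by decide +kernel) u t

theorem sw_16_15' (u t : K) (z : GL Data.D4.tbl.I K) :
    xx 16 u * (xx 15 t * z) = xx 15 t * (xx 16 u * z) := by
  rw [← mul_assoc, sw_16_15, mul_assoc]

theorem sw_17_12 (u t : K) : xx 17 u * xx 12 t = xx 12 t * xx 17 u :=
  sw_zero (by norm_num) (by norm_num) (by norm_num) (by decide +kernel) (by decide +kernel) u t

theorem sw_17_12' (u t : K) (z : GL Data.D4.tbl.I K) :
    xx 17 u * (xx 12 t * z) = xx 12 t * (xx 17 u * z) := by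
  rw [← mul_assoc, sw_17_12, mul_assoc]

theorem sw_17_13 (u t : K) : xx 17 u * xx 13 t = xx 13 t * xx 17 u :=
  sw_zero (by norm_num) (by norm_num) (by norm_num) (by decide +kernel) (by decide +kernel) u t

theorem sw_17_13' (u t : K) (z : GL Data.D4.tbl.I K) :
    xx 17 u * (xx 13 t * z) = xx 13 t * (xx 17 u * z) := by
  rw [← mul_assoc, sw_17_13, mul_assoc]

theorem sw_17_14 (u t : K) : xx 17 u * xx 14 t = xx 14 t * xx 17 u :=
  sw_zero (by norm_num) (by norm_num) (by norm_num) (by decide +kernel) (by decide +kernel) u t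

theorem sw_17_14' (u t : K) (z : GL Data.D4.tbl.I K) :
    xx 17 u * (xx 14 t * z) = xx 14 t * (xx 17 u * z) := by
  rw [← mul_assoc, sw_17_14, mul_assoc]

theorem sw_17_15 (u t : K) : xx 17 u * xx 15 t = xx 15 t * xx 17 u :=
  sw_zero (by norm_num) (by norm_num) (by norm_num) (by decide +kernel) (by decide +kernel) u t

theorem sw_17_15' (u t : K) (z : GL Data.D4.tbl.I K) :
    xx 17 u * (xx 15 t * z) = xx 15 t * (xx 17 u * z) := by
  rw [← mul_assoc, sw_17_15, mul_assoc]

theorem sw_17_16 (u t : K) : xx 17 u * xx 16 t = xx 16 t * xx 17 u :=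
  sw_zero (by norm_num) (by norm_num) (by norm_num) (by decide +kernel) (by decide +kernel) u t

theorem sw_17_16' (u t : K) (z : GL Data.D4.tbl.I K) :
    xx 17 u * (xx 16 t * z) = xx 16 t * (xx 17 u * z) := by
  rw [← mul_assoc, sw_17_16, mul_assoc]

theorem sw_18_12 (u t : K) : xx 18 u * xx 12 t = xx 12 t * xx 18 u :=
  sw_zero (by norm_num) (by norm_num) (by norm_num) (by decide +kernel) (by decide +kernel) u t

theorem sw_18_12' (u t : K) (z : GL Data.D4.tbl.I K) :
    xx 18 u * (xx 12 t * z) = xx 12 t * (xx 18 u * z) := by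
  rw [← mul_assoc, sw_18_12, mul_assoc]

theorem sw_18_13 (u t : K) : xx 18 u * xx 13 t = xx 13 t * xx 18 u :=
  sw_zero (by norm_num) (by norm_num) (by norm_num) (by decide +kernel) (by decide +kernel) u t

theorem sw_18_13' (u t : K) (z : GL Data.D4.tbl.I K) :
    xx 18 u * (xx 13 t * z) = xx 13 t * (xx 18 u * z) := by
  rw [← mul_assoc, sw_18_13, mul_assoc]

theorem sw_18_14 (u t : K) : xx 18 u * xx 14 t = xx 14 t * (xx 18 u * xx 19 (-(t * u))) := by
  simpa using sw_one (c := 19) (N := 1) (by norm_num) (by norm_num) (by norm_num) (by decide +kernel) (by decide +kernel) u t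

theorem sw_18_14' (u t : K) (z : GL Data.D4.tbl.I K) :
    xx 18 u * (xx 14 t * z) = xx 14 t * (xx 18 u * (xx 19 (-(t * u)) * z)) := by
  rw [← mul_assoc, sw_18_14]; simp only [mul_assoc]

theorem sw_18_15 (u t : K) : xx 18 u * xx 15 t = xx 15 t * (xx 18 u * xx 20 (-(t * u))) := by
  simpa using sw_one (c := 20) (N := 1) (by norm_num) (by norm_num) (by norm_num) (by decide +kernel) (by decide +kernel) u t

theorem sw_18_15' (u t : K) (z : GL Data.D4.tbl.I K) :
    xx 18 u * (xx 15 t * z) = xx 15 t * (xx 18 u * (xx 20 (-(t * u)) * z)) := by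
  rw [← mul_assoc, sw_18_15]; simp only [mul_assoc]

theorem sw_18_16 (u t : K) : xx 18 u * xx 16 t = xx 16 t * (xx 18 u * xx 21 (-(t * u))) := by
  simpa using sw_one (c := 21) (N := 1) (by norm_num) (by norm_num) (by norm_num) (by decide +kernel) (by decide +kernel) u t

theorem sw_18_16' (u t : K) (z : GL Data.D4.tbl.I K) :
    xx 18 u * (xx 16 t * z) = xx 16 t * (xx 18 u * (xx 21 (-(t * u)) * z)) := by
  rw [← mul_assoc, sw_18_16]; simp only [mul_assoc]

theorem sw_18_17 (u t : K) : xx 18 u * xx 17 t = xx 17 t * (xx 18 u * xx 22 (-(t * u))) := by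
  simpa using sw_one (c := 22) (N := 1) (by norm_num) (by norm_num) (by norm_num) (by decide +kernel) (by decide +kernel) u t

theorem sw_18_17' (u t : K) (z : GL Data.D4.tbl.I K) :
    xx 18 u * (xx 17 t * z) = xx 17 t * (xx 18 u * (xx 22 (-(t * u)) * z)) := by
  rw [← mul_assoc, sw_18_17]; simp only [mul_assoc]

theorem sw_19_12 (u t : K) : xx 19 u * xx 12 t = xx 12 t * (xx 19 u * xx 20 (-(t * u))) := by
  simpa using sw_one (c := 20) (N := 1) (by norm_num) (by norm_num) (by norm_num) (by decide +kernel) (by decide +kernel) u t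

theorem sw_19_12' (u t : K) (z : GL Data.D4.tbl.I K) :
    xx 19 u * (xx 12 t * z) = xx 12 t * (xx 19 u * (xx 20 (-(t * u)) * z)) := by
  rw [← mul_assoc, sw_19_12]; simp only [mul_assoc]

theorem sw_19_13 (u t : K) : xx 19 u * xx 13 t = xx 13 t * (xx 19 u * xx 21 (-(t * u))) := by
  simpa using sw_one (c := 21) (N := 1) (by norm_num) (by norm_num) (by norm_num) (by decide +kernel) (by decide +kernel) u t

theorem sw_19_13' (u t : K) (z : GL Data.D4.tbl.I K) :
    xx 19 u * (xx 13 t * z) = xx 13 t * (xx 19 u * (xx 21 (-(t * u)) * z)) := by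
  rw [← mul_assoc, sw_19_13]; simp only [mul_assoc]

theorem sw_19_14 (u t : K) : xx 19 u * xx 14 t = xx 14 t * xx 19 u :=
  sw_zero (by norm_num) (by norm_num) (by norm_num) (by decide +kernel) (by decide +kernel) u t

theorem sw_19_14' (u t : K) (z : GL Data.D4.tbl.I K) :
    xx 19 u * (xx 14 t * z) = xx 14 t * (xx 19 u * z) := by
  rw [← mul_assoc, sw_19_14, mul_assoc]

theorem sw_19_15 (u t : K) : xx 19 u * xx 15 t = xx 15 t * xx 19 u :=
  sw_zero (by norm_num) (by norm_num) (by norm_num) (by decide +kernel) (by decide +kernel) u t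

theorem sw_19_15' (u t : K) (z : GL Data.D4.tbl.I K) :
    xx 19 u * (xx 15 t * z) = xx 15 t * (xx 19 u * z) := by
  rw [← mul_assoc, sw_19_15, mul_assoc]

theorem sw_19_16 (u t : K) : xx 19 u * xx 16 t = xx 16 t * xx 19 u :=
  sw_zero (by norm_num) (by norm_num) (by norm_num) (by decide +kernel) (by decide +kernel) u t

theorem sw_19_16' (u t : K) (z : GL Data.D4.tbl.I K) :
    xx 19 u * (xx 16 t * z) = xx 16 t * (xx 19 u * z) := by
  rw [← mul_assoc, sw_19_16, mul_assoc]

theorem sw_19_17 (u t : K) : xx 19 u * xx 17 t = xx 17 t * (xx 19 u * xx 23 (-(t * u))) := by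
  simpa using sw_one (c := 23) (N := 1) (by norm_num) (by norm_num) (by norm_num) (by decide +kernel) (by decide +kernel) u t

theorem sw_19_17' (u t : K) (z : GL Data.D4.tbl.I K) :
    xx 19 u * (xx 17 t * z) = xx 17 t * (xx 19 u * (xx 23 (-(t * u)) * z)) := by
  rw [← mul_assoc, sw_19_17]; simp only [mul_assoc]

theorem sw_19_18 (u t : K) : xx 19 u * xx 18 t = xx 18 t * xx 19 u :=
  sw_zero (by norm_num) (by norm_num) (by norm_num) (by decide +kernel) (by decide +kernel) u t

theorem sw_19_18' (u t : K) (z : GL Data.D4.tbl.I K) :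
    xx 19 u * (xx 18 t * z) = xx 18 t * (xx 19 u * z) := by
  rw [← mul_assoc, sw_19_18, mul_assoc]

theorem sw_20_12 (u t : K) : xx 20 u * xx 12 t = xx 12 t * xx 20 u :=
  sw_zero (by norm_num) (by norm_num) (by norm_num) (by decide +kernel) (by decide +kernel) u t

theorem sw_20_12' (u t : K) (z : GL Data.D4.tbl.I K) :
    xx 20 u * (xx 12 t * z) = xx 12 t * (xx 20 u * z) := by
  rw [← mul_assoc, sw_20_12, mul_assoc]

theorem sw_20_13 (u t : K) : xx 20 u * xx 13 t = xx 13 t * (xx 20 u * xx 22 (-(t * u))) := by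
  simpa using sw_one (c := 22) (N := 1) (by norm_num) (by norm_num) (by norm_num) (by decide +kernel) (by decide +kernel) u t

theorem sw_20_13' (u t : K) (z : GL Data.D4.tbl.I K) :
    xx 20 u * (xx 13 t * z) = xx 13 t * (xx 20 u * (xx 22 (-(t * u)) * z)) := by
  rw [← mul_assoc, sw_20_13]; simp only [mul_assoc]

theorem sw_20_14 (u t : K) : xx 20 u * xx 14 t = xx 14 t * xx 20 u :=
  sw_zero (by norm_num) (by norm_num) (by norm_num) (by decide +kernel) (by decide +kernel) u t

theorem sw_20_14' (u t : K) (z : GL Data.D4.tbl.I K) :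
    xx 20 u * (xx 14 t * z) = xx 14 t * (xx 20 u * z) := by
  rw [← mul_assoc, sw_20_14, mul_assoc]

theorem sw_20_15 (u t : K) : xx 20 u * xx 15 t = xx 15 t * xx 20 u :=
  sw_zero (by norm_num) (by norm_num) (by norm_num) (by decide +kernel) (by decide +kernel) u t

theorem sw_20_15' (u t : K) (z : GL Data.D4.tbl.I K) :
    xx 20 u * (xx 15 t * z) = xx 15 t * (xx 20 u * z) := by
  rw [← mul_assoc, sw_20_15, mul_assoc]

theorem sw_20_16 (u t : K) : xx 20 u * xx 16 t = xx 16 t * (xx 20 u * xx 23 ((t * u))) := by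
  simpa using sw_one (c := 23) (N := -1) (by norm_num) (by norm_num) (by norm_num) (by decide +kernel) (by decide +kernel) u t

theorem sw_20_16' (u t : K) (z : GL Data.D4.tbl.I K) :
    xx 20 u * (xx 16 t * z) = xx 16 t * (xx 20 u * (xx 23 ((t * u)) * z)) := by
  rw [← mul_assoc, sw_20_16]; simp only [mul_assoc]

theorem sw_20_17 (u t : K) : xx 20 u * xx 17 t = xx 17 t * xx 20 u :=
  sw_zero (by norm_num) (by norm_num) (by norm_num) (by decide +kernel) (by decide +kernel) u t

theorem sw_20_17' (u t : K) (z : GL Data.D4.tbl.I K) :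
    xx 20 u * (xx 17 t * z) = xx 17 t * (xx 20 u * z) := by
  rw [← mul_assoc, sw_20_17, mul_assoc]

theorem sw_20_18 (u t : K) : xx 20 u * xx 18 t = xx 18 t * xx 20 u :=
  sw_zero (by norm_num) (by norm_num) (by norm_num) (by decide +kernel) (by decide +kernel) u t

theorem sw_20_18' (u t : K) (z : GL Data.D4.tbl.I K) :
    xx 20 u * (xx 18 t * z) = xx 18 t * (xx 20 u * z) := by
  rw [← mul_assoc, sw_20_18, mul_assoc]

theorem sw_20_19 (u t : K) : xx 20 u * xx 19 t = xx 19 t * xx 20 u :=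
  sw_zero (by norm_num) (by norm_num) (by norm_num) (by decide +kernel) (by decide +kernel) u t

theorem sw_20_19' (u t : K) (z : GL Data.D4.tbl.I K) :
    xx 20 u * (xx 19 t * z) = xx 19 t * (xx 20 u * z) := by
  rw [← mul_assoc, sw_20_19, mul_assoc]

theorem sw_21_12 (u t : K) : xx 21 u * xx 12 t = xx 12 t * (xx 21 u * xx 22 (-(t * u))) := by
  simpa using sw_one (c := 22) (N := 1) (by norm_num) (by norm_num) (by norm_num) (by decide +kernel) (by decide +kernel) u t

theorem sw_21_12' (u t : K) (z : GL Data.D4.tbl.I K) :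
    xx 21 u * (xx 12 t * z) = xx 12 t * (xx 21 u * (xx 22 (-(t * u)) * z)) := by
  rw [← mul_assoc, sw_21_12]; simp only [mul_assoc]

theorem sw_21_13 (u t : K) : xx 21 u * xx 13 t = xx 13 t * xx 21 u :=
  sw_zero (by norm_num) (by norm_num) (by norm_num) (by decide +kernel) (by decide +kernel) u t

theorem sw_21_13' (u t : K) (z : GL Data.D4.tbl.I K) :
    xx 21 u * (xx 13 t * z) = xx 13 t * (xx 21 u * z) := by
  rw [← mul_assoc, sw_21_13, mul_assoc]

theorem sw_21_14 (u t : K) : xx 21 u * xx 14 t = xx 14 t * xx 21 u :=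
  sw_zero (by norm_num) (by norm_num) (by norm_num) (by decide +kernel) (by decide +kernel) u t

theorem sw_21_14' (u t : K) (z : GL Data.D4.tbl.I K) :
    xx 21 u * (xx 14 t * z) = xx 14 t * (xx 21 u * z) := by
  rw [← mul_assoc, sw_21_14, mul_assoc]

theorem sw_21_15 (u t : K) : xx 21 u * xx 15 t = xx 15 t * (xx 21 u * xx 23 ((t * u))) := by
  simpa using sw_one (c := 23) (N := -1) (by norm_num) (by norm_num) (by norm_num) (by decide +kernel) (by decide +kernel) u t

theorem sw_21_15' (u t : K) (z : GL Data.D4.tbl.I K) :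
    xx 21 u * (xx 15 t * z) = xx 15 t * (xx 21 u * (xx 23 ((t * u)) * z)) := by
  rw [← mul_assoc, sw_21_15]; simp only [mul_assoc]

theorem sw_21_16 (u t : K) : xx 21 u * xx 16 t = xx 16 t * xx 21 u :=
  sw_zero (by norm_num) (by norm_num) (by norm_num) (by decide +kernel) (by decide +kernel) u t

theorem sw_21_16' (u t : K) (z : GL Data.D4.tbl.I K) :
    xx 21 u * (xx 16 t * z) = xx 16 t * (xx 21 u * z) := by
  rw [← mul_assoc, sw_21_16, mul_assoc]

theorem sw_21_17 (u t : K) : xx 21 u * xx 17 t = xx 17 t * xx 21 u :=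
  sw_zero (by norm_num) (by norm_num) (by norm_num) (by decide +kernel) (by decide +kernel) u t

theorem sw_21_17' (u t : K) (z : GL Data.D4.tbl.I K) :
    xx 21 u * (xx 17 t * z) = xx 17 t * (xx 21 u * z) := by
  rw [← mul_assoc, sw_21_17, mul_assoc]

theorem sw_21_18 (u t : K) : xx 21 u * xx 18 t = xx 18 t * xx 21 u :=
  sw_zero (by norm_num) (by norm_num) (by norm_num) (by decide +kernel) (by decide +kernel) u t

theorem sw_21_18' (u t : K) (z : GL Data.D4.tbl.I K) :
    xx 21 u * (xx 18 t * z) = xx 18 t * (xx 21 u * z) := by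
  rw [← mul_assoc, sw_21_18, mul_assoc]

theorem sw_21_19 (u t : K) : xx 21 u * xx 19 t = xx 19 t * xx 21 u :=
  sw_zero (by norm_num) (by norm_num) (by norm_num) (by decide +kernel) (by decide +kernel) u t

theorem sw_21_19' (u t : K) (z : GL Data.D4.tbl.I K) :
    xx 21 u * (xx 19 t * z) = xx 19 t * (xx 21 u * z) := by
  rw [← mul_assoc, sw_21_19, mul_assoc]

theorem sw_21_20 (u t : K) : xx 21 u * xx 20 t = xx 20 t * xx 21 u :=
  sw_zero (by norm_num) (by norm_num) (by norm_num) (by decide +kernel) (by decide +kernel) u t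

theorem sw_21_20' (u t : K) (z : GL Data.D4.tbl.I K) :
    xx 21 u * (xx 20 t * z) = xx 20 t * (xx 21 u * z) := by
  rw [← mul_assoc, sw_21_20, mul_assoc]

theorem sw_22_12 (u t : K) : xx 22 u * xx 12 t = xx 12 t * xx 22 u :=
  sw_zero (by norm_num) (by norm_num) (by norm_num) (by decide +kernel) (by decide +kernel) u t

theorem sw_22_12' (u t : K) (z : GL Data.D4.tbl.I K) :
    xx 22 u * (xx 12 t * z) = xx 12 t * (xx 22 u * z) := by
  rw [← mul_assoc, sw_22_12, mul_assoc]

theorem sw_22_13 (u t : K) : xx 22 u * xx 13 t = xx 13 t * xx 22 u :=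
  sw_zero (by norm_num) (by norm_num) (by norm_num) (by decide +kernel) (by decide +kernel) u t

theorem sw_22_13' (u t : K) (z : GL Data.D4.tbl.I K) :
    xx 22 u * (xx 13 t * z) = xx 13 t * (xx 22 u * z) := by
  rw [← mul_assoc, sw_22_13, mul_assoc]

theorem sw_22_14 (u t : K) : xx 22 u * xx 14 t = xx 14 t * (xx 22 u * xx 23 (-(t * u))) := by
  simpa using sw_one (c := 23) (N := 1) (by norm_num) (by norm_num) (by norm_num) (by decide +kernel) (by decide +kernel) u t

theorem sw_22_14' (u t : K) (z : GL Data.D4.tbl.I K) :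
    xx 22 u * (xx 14 t * z) = xx 14 t * (xx 22 u * (xx 23 (-(t * u)) * z)) := by
  rw [← mul_assoc, sw_22_14]; simp only [mul_assoc]

theorem sw_22_15 (u t : K) : xx 22 u * xx 15 t = xx 15 t * xx 22 u :=
  sw_zero (by norm_num) (by norm_num) (by norm_num) (by decide +kernel) (by decide +kernel) u t

theorem sw_22_15' (u t : K) (z : GL Data.D4.tbl.I K) :
    xx 22 u * (xx 15 t * z) = xx 15 t * (xx 22 u * z) := by
  rw [← mul_assoc, sw_22_15, mul_assoc]

theorem sw_22_16 (u t : K) : xx 22 u * xx 16 t = xx 16 t * xx 22 u :=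
  sw_zero (by norm_num) (by norm_num) (by norm_num) (by decide +kernel) (by decide +kernel) u t

theorem sw_22_16' (u t : K) (z : GL Data.D4.tbl.I K) :
    xx 22 u * (xx 16 t * z) = xx 16 t * (xx 22 u * z) := by
  rw [← mul_assoc, sw_22_16, mul_assoc]

theorem sw_22_17 (u t : K) : xx 22 u * xx 17 t = xx 17 t * xx 22 u :=
  sw_zero (by norm_num) (by norm_num) (by norm_num) (by decide +kernel) (by decide +kernel) u t

theorem sw_22_17' (u t : K) (z : GL Data.D4.tbl.I K) :
    xx 22 u * (xx 17 t * z) = xx 17 t * (xx 22 u * z) := by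
  rw [← mul_assoc, sw_22_17, mul_assoc]

theorem sw_22_18 (u t : K) : xx 22 u * xx 18 t = xx 18 t * xx 22 u :=
  sw_zero (by norm_num) (by norm_num) (by norm_num) (by decide +kernel) (by decide +kernel) u t

theorem sw_22_18' (u t : K) (z : GL Data.D4.tbl.I K) :
    xx 22 u * (xx 18 t * z) = xx 18 t * (xx 22 u * z) := by
  rw [← mul_assoc, sw_22_18, mul_assoc]

theorem sw_22_19 (u t : K) : xx 22 u * xx 19 t = xx 19 t * xx 22 u :=
  sw_zero (by norm_num) (by norm_num) (by norm_num) (by decide +kernel) (by decide +kernel) u t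

theorem sw_22_19' (u t : K) (z : GL Data.D4.tbl.I K) :
    xx 22 u * (xx 19 t * z) = xx 19 t * (xx 22 u * z) := by
  rw [← mul_assoc, sw_22_19, mul_assoc]

theorem sw_22_20 (u t : K) : xx 22 u * xx 20 t = xx 20 t * xx 22 u :=
  sw_zero (by norm_num) (by norm_num) (by norm_num) (by decide +kernel) (by decide +kernel) u t

theorem sw_22_20' (u t : K) (z : GL Data.D4.tbl.I K) :
    xx 22 u * (xx 20 t * z) = xx 20 t * (xx 22 u * z) := by
  rw [← mul_assoc, sw_22_20, mul_assoc]

theorem sw_22_21 (u t : K) : xx 22 u * xx 21 t = xx 21 t * xx 22 u :=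
  sw_zero (by norm_num) (by norm_num) (by norm_num) (by decide +kernel) (by decide +kernel) u t

theorem sw_22_21' (u t : K) (z : GL Data.D4.tbl.I K) :
    xx 22 u * (xx 21 t * z) = xx 21 t * (xx 22 u * z) := by
  rw [← mul_assoc, sw_22_21, mul_assoc]

theorem sw_23_12 (u t : K) : xx 23 u * xx 12 t = xx 12 t * xx 23 u :=
  sw_zero (by norm_num) (by norm_num) (by norm_num) (by decide +kernel) (by decide +kernel) u t

theorem sw_23_12' (u t : K) (z : GL Data.D4.tbl.I K) :
    xx 23 u * (xx 12 t * z) = xx 12 t * (xx 23 u * z) := by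
  rw [← mul_assoc, sw_23_12, mul_assoc]

theorem sw_23_13 (u t : K) : xx 23 u * xx 13 t = xx 13 t * xx 23 u :=
  sw_zero (by norm_num) (by norm_num) (by norm_num) (by decide +kernel) (by decide +kernel) u t

theorem sw_23_13' (u t : K) (z : GL Data.D4.tbl.I K) :
    xx 23 u * (xx 13 t * z) = xx 13 t * (xx 23 u * z) := by
  rw [← mul_assoc, sw_23_13, mul_assoc]

theorem sw_23_14 (u t : K) : xx 23 u * xx 14 t = xx 14 t * xx 23 u :=
  sw_zero (by norm_num) (by norm_num) (by norm_num) (by decide +kernel) (by decide +kernel) u t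

theorem sw_23_14' (u t : K) (z : GL Data.D4.tbl.I K) :
    xx 23 u * (xx 14 t * z) = xx 14 t * (xx 23 u * z) := by
  rw [← mul_assoc, sw_23_14, mul_assoc]

theorem sw_23_15 (u t : K) : xx 23 u * xx 15 t = xx 15 t * xx 23 u :=
  sw_zero (by norm_num) (by norm_num) (by norm_num) (by decide +kernel) (by decide +kernel) u t

theorem sw_23_15' (u t : K) (z : GL Data.D4.tbl.I K) :
    xx 23 u * (xx 15 t * z) = xx 15 t * (xx 23 u * z) := by
  rw [← mul_assoc, sw_23_15, mul_assoc]

theorem sw_23_16 (u t : K) : xx 23 u * xx 16 t = xx 16 t * xx 23 u :=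
  sw_zero (by norm_num) (by norm_num) (by norm_num) (by decide +kernel) (by decide +kernel) u t

theorem sw_23_16' (u t : K) (z : GL Data.D4.tbl.I K) :
    xx 23 u * (xx 16 t * z) = xx 16 t * (xx 23 u * z) := by
  rw [← mul_assoc, sw_23_16, mul_assoc]

theorem sw_23_17 (u t : K) : xx 23 u * xx 17 t = xx 17 t * xx 23 u :=
  sw_zero (by norm_num) (by norm_num) (by norm_num) (by decide +kernel) (by decide +kernel) u t

theorem sw_23_17' (u t : K) (z : GL Data.D4.tbl.I K) :
    xx 23 u * (xx 17 t * z) = xx 17 t * (xx 23 u * z) := by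
  rw [← mul_assoc, sw_23_17, mul_assoc]

theorem sw_23_18 (u t : K) : xx 23 u * xx 18 t = xx 18 t * xx 23 u :=
  sw_zero (by norm_num) (by norm_num) (by norm_num) (by decide +kernel) (by decide +kernel) u t

theorem sw_23_18' (u t : K) (z : GL Data.D4.tbl.I K) :
    xx 23 u * (xx 18 t * z) = xx 18 t * (xx 23 u * z) := by
  rw [← mul_assoc, sw_23_18, mul_assoc]

theorem sw_23_19 (u t : K) : xx 23 u * xx 19 t = xx 19 t * xx 23 u :=
  sw_zero (by norm_num) (by norm_num) (by norm_num) (by decide +kernel) (by decide +kernel) u t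

theorem sw_23_19' (u t : K) (z : GL Data.D4.tbl.I K) :
    xx 23 u * (xx 19 t * z) = xx 19 t * (xx 23 u * z) := by
  rw [← mul_assoc, sw_23_19, mul_assoc]

theorem sw_23_20 (u t : K) : xx 23 u * xx 20 t = xx 20 t * xx 23 u :=
  sw_zero (by norm_num) (by norm_num) (by norm_num) (by decide +kernel) (by decide +kernel) u t

theorem sw_23_20' (u t : K) (z : GL Data.D4.tbl.I K) :
    xx 23 u * (xx 20 t * z) = xx 20 t * (xx 23 u * z) := by
  rw [← mul_assoc, sw_23_20, mul_assoc]

theorem sw_23_21 (u t : K) : xx 23 u * xx 21 t = xx 21 t * xx 23 u :=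
  sw_zero (by norm_num) (by norm_num) (by norm_num) (by decide +kernel) (by decide +kernel) u t

theorem sw_23_21' (u t : K) (z : GL Data.D4.tbl.I K) :
    xx 23 u * (xx 21 t * z) = xx 21 t * (xx 23 u * z) := by
  rw [← mul_assoc, sw_23_21, mul_assoc]

theorem sw_23_22 (u t : K) : xx 23 u * xx 22 t = xx 22 t * xx 23 u :=
  sw_zero (by norm_num) (by norm_num) (by norm_num) (by decide +kernel) (by decide +kernel) u t

theorem sw_23_22' (u t : K) (z : GL Data.D4.tbl.I K) :
    xx 23 u * (xx 22 t * z) = xx 22 t * (xx 23 u * z) := by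
  rw [← mul_assoc, sw_23_22, mul_assoc]

end CfsgLib.KnownA.D4Sub
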