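import Cfsg.Agent.Lib.KnownA.D4Sub.Shape

/-!
The points over the subfield with q elements are maximal in ³D₄(q): every conjugate of the long root
element in a proper overgroup lies in them.
-/

set_option autoImplicit false
set_option maxRecDepth 20000
set_option Elab.async false

namespace CfsgLib.KnownA.D4Sub

open CfsgLib.Chevalley CfsgLib.Chevalley.Tbl

variable {K : Type*} [Field K] [Finite K] {q : ℕ} (hq : IsPrimePow q) (hK : Nat.card K = q ^ 3)

local notation "TT" => Data.D4.tbl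
local notation "xx" => Data.D4.tbl.xU K
local notation "σ" => Twist.D4.fq hq hK
local notation "SS" => AbSetup.S (Twist.D4.setup hq hK)
local notation "φ" => phi hq hK
local notation "UU" => Tbl.rootGen Data.D4.tbl K (fun r => 12 ≤ r)

theorem mono_n14 : (TT).Mono (n14 : GL (TT).I K) ((TT).refP Data.D4.valid ⟨1, by decide +kernel⟩) := by
  have h := mono_nU_simple (F := K) Data.D4.valid (⟨1, by decide +kernel⟩ : Fin (TT).rank)
  rwa [show (TT).simple (⟨1, by decide +kernel⟩ : Fin (TT).rank).val = 14 by decide +kernel] at h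

theorem mono_nA : (TT).Mono (nA : GL (TT).I K) ((TT).refP Data.D4.valid ⟨0, by decide +kernel⟩ *
    ((TT).refP Data.D4.valid ⟨2, by decide +kernel⟩ * (TT).refP Data.D4.valid ⟨3, by decide +kernel⟩)) := by
  have h0 := mono_nU_simple (F := K) Data.D4.valid (⟨0, by decide +kernel⟩ : Fin (TT).rank)
  have h2 := mono_nU_simple (F := K) Data.D4.valid (⟨2, by decide +kernel⟩ : Fin (TT).rank)
  have h3 := mono_nU_simple (F := K) Data.D4.valid (⟨3, by decide +kernel⟩ : Fin (TT).rank)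
  rw [show (TT).simple (⟨0, by decide +kernel⟩ : Fin (TT).rank).val = 18 by decide +kernel] at h0
  rw [show (TT).simple (⟨2, by decide +kernel⟩ : Fin (TT).rank).val = 13 by decide +kernel] at h2
  rw [show (TT).simple (⟨3, by decide +kernel⟩ : Fin (TT).rank).val = 12 by decide +kernel] at h3
  exact h0.mul (h2.mul h3)

theorem n14_upper {z : GL (TT).I K}
    (hz : z ∈ (TT).rootGen K (· ∈ [12, 13, 15, 16, 17, 18, 19, 20, 21, 22, 23])) :
    n14 * z * n14⁻¹ ∈ UU := by
  refine conj_mem_rootGen Data.D4.valid mono_n14 (fun s hs => ?_) hz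
  show 12 ≤ (TT).refl 1 s.val
  have k : ∀ s ∈ [12, 13, 15, 16, 17, 18, 19, 20, 21, 22, 23], 12 ≤ (TT).refl 1 s := by decide +kernel
  exact k s.val hs

theorem nA_outA {z : GL (TT).I K} (hz : z ∈ (TT).rootGen K (· ∈ outA)) : nA * z * nA⁻¹ ∈ UU := by
  refine conj_mem_rootGen Data.D4.valid mono_nA (fun s hs => ?_) hz
  show 12 ≤ (TT).refl 0 ((TT).refl 2 ((TT).refl 3 s.val))
  have k : ∀ s ∈ outA, 12 ≤ (TT).refl 0 ((TT).refl 2 ((TT).refl 3 s)) := by decide +kernel
  exact k s.val hs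

variable {hq hK} {H : Subgroup (GL (Data.D4.tbl).I K)}

/-- Conjugating by a fixed element of the overgroup. -/
theorem fixed_of_conj {g y : GL (TT).I K} (hg : φ g = g) (h : φ (g * y * g⁻¹) = g * y * g⁻¹) :
    φ y = y := by
  rw [map_mul, map_mul, map_inv, hg] at h
  exact mul_left_cancel (mul_right_cancel h)

theorem conj_of_fixed {g y : GL (TT).I K} (hg : φ g = g) (h : φ y = y) :
    φ (g * y * g⁻¹) = g * y * g⁻¹ := by
  rw [map_mul, map_mul, map_inv, hg, h]

theorem Over.long_phi {r : ℕ} (hr : r < 24) (hρ : Data.D4.graph.ρ r = r) {c : K} (hc : σ c = c) :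
    φ (xx r c) = xx r c := (long_fix hq hK hr hρ hc).2

/-- A conjugate of `x₁₄(c)` by a fixed positive element in a proper overgroup. -/
theorem Over.case14 (h : Over hq hK H) (hH : H ≠ (SS).fix) {c y t : K} {r : GL (TT).I K} (hc : σ c = c)
    (hc0 : c ≠ 0) (hy : σ y = y) (hr : r ∈ (TT).rootGen K (· ∈ upper)) (hrf : r ∈ (SS).fix)
    (hY : (xx 14 y * A hq hK t * r) * xx 14 c * (xx 14 y * A hq hK t * r)⁻¹ ∈ H) :
    σ t = t ∧ φ ((xx 14 y * A hq hK t * r) * xx 14 c * (xx 14 y * A hq hK t * r)⁻¹) =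
      (xx 14 y * A hq hK t * r) * xx 14 c * (xx 14 y * A hq hK t * r)⁻¹ := by
  obtain ⟨g, eg⟩ := upper_x14 hr c
  have hx14 := (long_fix hq hK (show 14 < 24 by norm_num) (by decide +kernel) hc).1
  have hg : σ g = g := by
    refine long_fix_iff hq hK (show 23 < 24 by norm_num) (by decide +kernel) ?_
    have : xx 23 g = (xx 14 c)⁻¹ * (r * xx 14 c * r⁻¹) := by
      rw [eg, mul_inv_cancel_right, inv_mul_cancel_left]
    rw [this]
    exact mul_mem (inv_mem hx14) (mul_mem (mul_mem hrf hx14) (inv_mem hrf))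
  have hAU : A hq hK t ∈ UU := mul_mem (x_U (by norm_num) (by norm_num) _)
    (mul_mem (x_U (by norm_num) (by norm_num) _) (x_U (by norm_num) (by norm_num) _))
  have e : (xx 14 y * A hq hK t * r) * xx 14 c * (xx 14 y * A hq hK t * r)⁻¹ =
      xx 14 y * (A hq hK t * xx 14 c * (A hq hK t)⁻¹ * xx 23 g) * (xx 14 y)⁻¹ := by
    calc _ = xx 14 y * (A hq hK t * (r * xx 14 c * r⁻¹) * (A hq hK t)⁻¹) * (xx 14 y)⁻¹ := by group
      _ = xx 14 y * (A hq hK t * xx 14 c * (xx 23 g * (A hq hK t)⁻¹)) * (xx 14 y)⁻¹ := by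
        rw [eg, mul_inv_cancel_right]; simp only [mul_assoc]
      _ = _ := by rw [(top_commute (inv_mem hAU) g).eq]; simp only [mul_assoc]
  have h14 := h.long (show 14 < 24 by norm_num) (show Data.D4.graph.ρ 14 = 14 by decide +kernel) hy
  rw [e] at hY ⊢
  have h23 := h.long (show 23 < 24 by norm_num) (show Data.D4.graph.ρ 23 = 23 by decide +kernel) hg
  have hz : A hq hK t * xx 14 c * (A hq hK t)⁻¹ ∈ H := by
    have := mul_mem (mul_mem (mul_mem (inv_mem h14) hY) h14) (inv_mem h23)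
    convert this using 1
    group
  have ht := h.param_fixed hH hc hc0 hz
  refine ⟨ht, conj_of_fixed (Over.long_phi (by norm_num) (by decide +kernel) hy) ?_⟩
  rw [map_mul, Over.long_phi (show 23 < 24 by norm_num) (by decide +kernel) hg,
    conj_of_fixed (by rw [A_phi, ht]) (Over.long_phi (show 14 < 24 by norm_num) (by decide +kernel) hc)]

theorem Over.case14' (h : Over hq hK H) (hH : H ≠ (SS).fix) {c : K} {u : GL (TT).I K} (hc : σ c = c)
    (hc0 : c ≠ 0) (hu : u ∈ UU) (huf : u ∈ (SS).fix) (hY : u * xx 14 c * u⁻¹ ∈ H) :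
    φ (u * xx 14 c * u⁻¹) = u * xx 14 c * u⁻¹ := by
  obtain ⟨y, t, hy, r, hr, hrf, rfl⟩ := exists_shape hq hK hu huf
  exact (h.case14 hH hc hc0 hy hr hrf hY).2

theorem Over.case22 {c : K} {u : GL (TT).I K} (hc : σ c = c) (hu : u ∈ UU) (huf : u ∈ (SS).fix) :
    φ (u * xx 22 c * u⁻¹) = u * xx 22 c * u⁻¹ := by
  obtain ⟨y, t, hy, r, hr, -, rfl⟩ := exists_shape hq hK hu huf
  have hA : A hq hK t * r ∈ (TT).rootGen K (· ∈ [12, 13, 15, 16, 17, 18, 19, 20, 21, 22, 23]) := by
    refine mul_mem ?_ (rootGen_mono (fun s _ h => by revert s; decide) hr)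
    exact mul_mem (xU_mem_rootGen (show 18 < (TT).n by decide +kernel) (by simp) _)
      (mul_mem (xU_mem_rootGen (show 13 < (TT).n by decide +kernel) (by simp) _)
        (xU_mem_rootGen (show 12 < (TT).n by decide +kernel) (by simp) _))
  have e : xx 14 y * A hq hK t * r * xx 22 c * (xx 14 y * A hq hK t * r)⁻¹ =
      xx 14 y * xx 22 c * (xx 14 y)⁻¹ := by
    calc _ = xx 14 y * ((A hq hK t * r) * xx 22 c * (A hq hK t * r)⁻¹) * (xx 14 y)⁻¹ := by group
      _ = _ := by rw [← (top22_commute hA c).eq, mul_inv_cancel_right]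
  rw [e]
  exact conj_of_fixed (Over.long_phi (by norm_num) (by decide +kernel) hy)
    (Over.long_phi (show 22 < 24 by norm_num) (by decide +kernel) hc)

theorem Over.case9 (h : Over hq hK H) (hH : H ≠ (SS).fix) {c : K} {u : GL (TT).I K} (hc : σ c = c)
    (hc0 : c ≠ 0) (hu : u ∈ UU) (huf : u ∈ (SS).fix) (hY : u * xx 9 c * u⁻¹ ∈ H) :
    φ (u * xx 9 c * u⁻¹) = u * xx 9 c * u⁻¹ := by
  obtain ⟨y, t, hy, r, hr, hrf, rfl⟩ := exists_shape hq hK hu huf
  have hA : A hq hK t * r ∈ (TT).rootGen K (· ∈ [12, 13, 15, 16, 17, 18, 19, 20, 21, 22, 23]) := by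
    refine mul_mem ?_ (rootGen_mono (fun s _ h => by revert s; decide) hr)
    exact mul_mem (xU_mem_rootGen (show 18 < (TT).n by decide +kernel) (by simp) _)
      (mul_mem (xU_mem_rootGen (show 13 < (TT).n by decide +kernel) (by simp) _)
        (xU_mem_rootGen (show 12 < (TT).n by decide +kernel) (by simp) _))
  set u' := n14 * (A hq hK t * r) * n14⁻¹ with hu'
  have hu'U : u' ∈ UU := n14_upper hA
  have hu'f : u' ∈ (SS).fix :=
    mul_mem (mul_mem (n14_fix hq hK) (mul_mem (A_fix hq hK t) hrf)) (inv_mem (n14_fix hq hK))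
  have e : u' * xx 14 (-c) * u'⁻¹ = n14 * ((xx 14 y)⁻¹ *
      (xx 14 y * A hq hK t * r * xx 9 c * (xx 14 y * A hq hK t * r)⁻¹) * xx 14 y) * n14⁻¹ := by
    have k := n14_x (K := K) (s := 9) (s' := 14) (e := -1) (by norm_num) (by decide +kernel) (by decide +kernel) c
    rw [Int.cast_neg, Int.cast_one, neg_one_mul] at k
    rw [show xx 14 (-c) = n14 * xx 9 c * n14⁻¹ by rw [k, mul_inv_cancel_right], hu']
    group
  have hxy := h.long (show 14 < 24 by norm_num) (show Data.D4.graph.ρ 14 = 14 by decide +kernel) hy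
  have hmem : u' * xx 14 (-c) * u'⁻¹ ∈ H := by
    rw [e]
    exact mul_mem (mul_mem h.n14_mem (mul_mem (mul_mem (inv_mem hxy) hY) hxy)) (inv_mem h.n14_mem)
  have hfix := h.case14' hH (by rw [map_neg, hc]) (neg_ne_zero.mpr hc0) hu'U hu'f hmem
  rw [e] at hfix
  have hfix' := fixed_of_conj (phi_n hq hK (show 14 < 24 by norm_num)) hfix
  have := fixed_of_conj (g := (xx 14 y)⁻¹)
    (by rw [map_inv, Over.long_phi (show 14 < 24 by norm_num) (by decide +kernel) hy]) (by rwa [inv_inv])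
  exact this

theorem Over.case1 (h : Over hq hK H) (hH : H ≠ (SS).fix) {c : K} {u : GL (TT).I K} (hc : σ c = c)
    (hc0 : c ≠ 0) (hu : u ∈ UU) (huf : u ∈ (SS).fix) (hY : u * xx 1 c * u⁻¹ ∈ H) :
    φ (u * xx 1 c * u⁻¹) = u * xx 1 c * u⁻¹ := by
  obtain ⟨y, t, hy, r, hr, hrf, rfl⟩ := exists_shape hq hK hu huf
  set U0 := xx 14 y * A hq hK t * r
  have hR : U0 * xx 14 (-c) * U0⁻¹ ∈ H := by
    have hz := h.long (show 23 < 24 by norm_num) (show Data.D4.graph.ρ 23 = 23 by decide +kernel)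
      (c := 1) (map_one _)
    have := mul_mem (mul_mem (mul_mem hY hz) (inv_mem hY)) (inv_mem hz)
    convert this using 1
    have e1 : xx 1 c * xx 23 1 = xx 14 (-c) * xx 23 1 * xx 1 c := by
      have k := comm_xU (F := K) Data.D4.valid Data.D4.chkComm (r := 1) (s := 23) (by decide +kernel)
        (by decide +kernel) (by norm_num) (by decide +kernel) c 1
      rw [show (TT).commT 1 23 = [(14, -1, 1, 1)] by decide +kernel] at k
      simp only [List.map_cons, List.map_nil, List.prod_cons, List.prod_nil, mul_one, pow_one,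
        Int.cast_neg, Int.cast_one, neg_one_mul, neg_neg] at k
      have c1 : Commute (xx 14 c) (xx 1 c) :=
        commX (by norm_num) (by norm_num) (by decide +kernel) (by decide +kernel) _ _
      have c2 : Commute (xx 14 c) (xx 23 1) :=
        commX (by norm_num) (by norm_num) (by decide +kernel) (by decide +kernel) _ _
      rw [mul_assoc, k, ← (c1.mul_right c2).eq, ← mul_assoc, x_add (by norm_num), neg_add_cancel,
        x_zero (by norm_num), one_mul]
    have hUU : U0 ∈ UU := hu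
    have c3 : Commute (xx 23 1) U0 := top_commute hUU 1
    calc U0 * xx 14 (-c) * U0⁻¹
        = U0 * ((xx 1 c * xx 23 1) * ((xx 1 c)⁻¹ * (xx 23 1)⁻¹)) * U0⁻¹ := by rw [e1]; group
      _ = U0 * xx 1 c * xx 23 1 * (xx 1 c)⁻¹ * ((xx 23 1)⁻¹ * U0⁻¹) := by group
      _ = U0 * xx 1 c * (U0⁻¹ * U0 * xx 23 1) * (xx 1 c)⁻¹ * (U0⁻¹ * (xx 23 1)⁻¹) := by
        rw [← (c3.inv_inv).eq, inv_mul_cancel, one_mul]
      _ = U0 * xx 1 c * (U0⁻¹ * (xx 23 1 * U0)) * (xx 1 c)⁻¹ * (U0⁻¹ * (xx 23 1)⁻¹) := by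
        rw [c3.eq]; group
      _ = _ := by group
  obtain ⟨ht, -⟩ := h.case14 hH (by rw [map_neg, hc]) (neg_ne_zero.mpr hc0) hy hr hrf hR
  set w := (A hq hK t)⁻¹ * xx 14 y * A hq hK t * r with hw
  have hAU : A hq hK t ∈ UU := mul_mem (x_U (by norm_num) (by norm_num) _)
    (mul_mem (x_U (by norm_num) (by norm_num) _) (x_U (by norm_num) (by norm_num) _))
  have hwP : w ∈ (TT).rootGen K (· ∈ outA) := by
    refine mul_mem ?_ (rootGen_mono (fun s _ h => by revert s; decide) hr)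
    have hN : UU ≤ Subgroup.normalizer ((TT).rootGen K (· ∈ outA) : Set (GL (TT).I K)) :=
      U_normalizer (by decide +kernel)
    simpa using (Subgroup.mem_normalizer_iff.mp (hN (inv_mem hAU)) (xx 14 y)).mp
      (xU_mem_rootGen (P := (· ∈ outA)) (show 14 < (TT).n by decide +kernel) (by decide) y)
  set u' := nA * w * nA⁻¹ with hu'
  have hu'U : u' ∈ UU := nA_outA hwP
  have hxy := long_fix hq hK (show 14 < 24 by norm_num) (show Data.D4.graph.ρ 14 = 14 by decide +kernel) hy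
  have hu'f : u' ∈ (SS).fix :=
    mul_mem (mul_mem (nA_fix hq hK) (mul_mem (mul_mem (mul_mem (inv_mem (A_fix hq hK t)) hxy.1)
      (A_fix hq hK t)) hrf)) (inv_mem (nA_fix hq hK))
  have e : u' * xx 9 c * u'⁻¹ =
      nA * ((A hq hK t)⁻¹ * (U0 * xx 1 c * U0⁻¹) * A hq hK t) * nA⁻¹ := by
    have k := nA_x (K := K) (s := 1) (s₁ := (TT).refl 3 1) (s₂ := (TT).refl 2 ((TT).refl 3 1)) (s₃ := 9)
      (e := 1) (by norm_num) (by decide +kernel) (by decide +kernel) c
    rw [Int.cast_one, one_mul] at k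
    rw [show xx 9 c = nA * xx 1 c * nA⁻¹ by rw [k, mul_inv_cancel_right], hu', hw]
    simp only [U0]
    group
  have hAH := h.A_mem ht
  have hmem : u' * xx 9 c * u'⁻¹ ∈ H := by
    rw [e]
    exact mul_mem (mul_mem h.nA_mem (mul_mem (mul_mem (inv_mem hAH) hY) hAH)) (inv_mem h.nA_mem)
  have hfix := h.case9 hH hc hc0 hu'U hu'f hmem
  rw [e] at hfix
  have hnA : φ (nA : GL (TT).I K) = nA := by
    rw [nA, map_mul, map_mul, phi_n hq hK (by norm_num), phi_n hq hK (by norm_num), phi_n hq hK (by norm_num)]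
  have hfix' := fixed_of_conj hnA hfix
  exact fixed_of_conj (g := (A hq hK t)⁻¹) (by rw [map_inv, A_phi, ht]) (by rwa [inv_inv])

theorem Over.case0 (h : Over hq hK H) (hH : H ≠ (SS).fix) {c : K} {u : GL (TT).I K} (hc : σ c = c)
    (hc0 : c ≠ 0) (hu : u ∈ UU) (huf : u ∈ (SS).fix) (hY : u * xx 0 c * u⁻¹ ∈ H) :
    φ (u * xx 0 c * u⁻¹) = u * xx 0 c * u⁻¹ := by
  obtain ⟨y, t, hy, r, hr, hrf, rfl⟩ := exists_shape hq hK hu huf
  have hA : A hq hK t * r ∈ (TT).rootGen K (· ∈ [12, 13, 15, 16, 17, 18, 19, 20, 21, 22, 23]) := by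
    refine mul_mem ?_ (rootGen_mono (fun s _ h => by revert s; decide) hr)
    exact mul_mem (xU_mem_rootGen (show 18 < (TT).n by decide +kernel) (by simp) _)
      (mul_mem (xU_mem_rootGen (show 13 < (TT).n by decide +kernel) (by simp) _)
        (xU_mem_rootGen (show 12 < (TT).n by decide +kernel) (by simp) _))
  set u' := n14 * (A hq hK t * r) * n14⁻¹ with hu'
  have hu'U : u' ∈ UU := n14_upper hA
  have hu'f : u' ∈ (SS).fix :=
    mul_mem (mul_mem (n14_fix hq hK) (mul_mem (A_fix hq hK t) hrf)) (inv_mem (n14_fix hq hK))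
  have e : u' * xx 1 (-c) * u'⁻¹ = n14 * ((xx 14 y)⁻¹ *
      (xx 14 y * A hq hK t * r * xx 0 c * (xx 14 y * A hq hK t * r)⁻¹) * xx 14 y) * n14⁻¹ := by
    have k := n14_x (K := K) (s := 0) (s' := 1) (e := -1) (by norm_num) (by decide +kernel) (by decide +kernel) c
    rw [Int.cast_neg, Int.cast_one, neg_one_mul] at k
    rw [show xx 1 (-c) = n14 * xx 0 c * n14⁻¹ by rw [k, mul_inv_cancel_right], hu']
    group
  have hxy := h.long (show 14 < 24 by norm_num) (show Data.D4.graph.ρ 14 = 14 by decide +kernel) hy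
  have hmem : u' * xx 1 (-c) * u'⁻¹ ∈ H := by
    rw [e]
    exact mul_mem (mul_mem h.n14_mem (mul_mem (mul_mem (inv_mem hxy) hY) hxy)) (inv_mem h.n14_mem)
  have hfix := h.case1 hH (by rw [map_neg, hc]) (neg_ne_zero.mpr hc0) hu'U hu'f hmem
  rw [e] at hfix
  have hfix' := fixed_of_conj (phi_n hq hK (show 14 < 24 by norm_num)) hfix
  exact fixed_of_conj (g := (xx 14 y)⁻¹)
    (by rw [map_inv, Over.long_phi (show 14 < 24 by norm_num) (by decide +kernel) hy]) (by rwa [inv_inv])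

/-- Every conjugate of the long root element in a proper overgroup is fixed by the field map. -/
theorem Over.conj_top_fixed (h : Over hq hK H) (hH : H ≠ (SS).fix) {g : GL (TT).I K} (hg : g ∈ H) :
    φ (g * xx 23 1 * g⁻¹) = g * xx 23 1 * g⁻¹ := by
  have hh : (TT).half = 12 := by decide +kernel
  obtain ⟨a, ha, haf, n, hnN, hnf, w, hw, hm, u, hu, huf, e⟩ := (SS).fix_canonical (h.le hg)
  rw [hh] at ha
  have huU : u ∈ UU := rootGen_mono (fun s _ ⟨_, hp, _⟩ => hh ▸ hp) hu
  have c23 : Commute (xx 23 1) u := top_commute huU 1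
  obtain ⟨d, hd⟩ := hm.conj ⟨23, by decide +kernel⟩
  have hn : n * xx 23 1 * n⁻¹ = xx (w ⟨23, by decide +kernel⟩).val (d : K) := by
    rw [(hd 1).1, mul_inv_cancel_right, mul_one]
  have hρw : Data.D4.graph.ρ (w ⟨23, by decide +kernel⟩).val = (w ⟨23, by decide +kernel⟩).val := by
    have h1 := ((SS).mem_W1_iff.mp hw).2
    rw [mul_inv_eq_iff_eq_mul] at h1
    have h2 := congrArg (fun p : Equiv.Perm (Fin (TT).n) => p ⟨23, by decide +kernel⟩) h1
    have h3 : (SS).ρ ⟨23, by decide +kernel⟩ = (⟨23, by decide +kernel⟩ : Fin (TT).n) :=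
      Fin.ext (show Data.D4.graph.ρ 23 = 23 by decide +kernel)
    simp only [Equiv.Perm.mul_apply, h3] at h2
    exact congrArg Fin.val h2
  have hrlt : (w ⟨23, by decide +kernel⟩).val < 24 := (w ⟨23, by decide +kernel⟩).2
  have hd' : σ (d : K) = d := by
    refine long_fix_iff hq hK hrlt hρw ?_
    rw [← hn]
    exact mul_mem (mul_mem hnf (long_fix hq hK (show 23 < 24 by norm_num) (by decide +kernel) (map_one _)).1)
      (inv_mem hnf)
  have eY : g * xx 23 1 * g⁻¹ = a * xx (w ⟨23, by decide +kernel⟩).val (d : K) * a⁻¹ := by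
    rw [e, ← hn]
    calc a * n * u * xx 23 1 * (a * n * u)⁻¹ = a * n * (u * xx 23 1 * u⁻¹) * n⁻¹ * a⁻¹ := by group
      _ = a * n * xx 23 1 * n⁻¹ * a⁻¹ := by rw [← c23.eq, mul_inv_cancel_right]
      _ = _ := by group
  have hmem : a * xx (w ⟨23, by decide +kernel⟩).val (d : K) * a⁻¹ ∈ H := by
    rw [← eY]
    exact mul_mem (mul_mem hg (h.long (show 23 < 24 by norm_num) (by decide +kernel) (map_one _))) (inv_mem hg)
  rw [eY]
  generalize (w ⟨23, by decide +kernel⟩).val = r at hρw hrlt hmem ⊢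
  have k : ∀ r < 24, Data.D4.graph.ρ r = r → r = 0 ∨ r = 1 ∨ r = 9 ∨ r = 14 ∨ r = 22 ∨ r = 23 := by
    decide +kernel
  rcases k r hrlt hρw with rfl | rfl | rfl | rfl | rfl | rfl
  · exact h.case0 hH hd' d.ne_zero ha haf hmem
  · exact h.case1 hH hd' d.ne_zero ha haf hmem
  · exact h.case9 hH hd' d.ne_zero ha haf hmem
  · exact h.case14' hH hd' d.ne_zero ha haf hmem
  · exact Over.case22 hd' ha haf
  · rw [← (top_commute ha (d : K)).eq, mul_inv_cancel_right]
    exact Over.long_phi (by norm_num) (by decide +kernel) hd'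

end CfsgLib.KnownA.D4Sub
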