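import Cfsg.Agent.Lib.KnownA.D4Sub.Field
import Cfsg.Agent.Lib.Chevalley.Overgroup.Order
import Cfsg.Agent.Lib.KnownB.ParabolicFStar

/-!
The positive part of ³D₄(q) and the long root elements in its cells.
-/

set_option autoImplicit false
set_option maxRecDepth 20000
set_option Elab.async false

namespace CfsgLib.KnownA.D4Sub

open CfsgLib.Chevalley CfsgLib.Chevalley.Tbl
open CfsgLib.Chevalley.Overgroup (central_commute)

variable {K : Type*} [Field K] [Finite K] {q : ℕ} (hq : IsPrimePow q) (hK : Nat.card K = q ^ 3)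

local notation "TT" => Data.D4.tbl
local notation "xx" => Data.D4.tbl.xU K
local notation "σ" => Twist.D4.fq hq hK
local notation "SS" => AbSetup.S (Twist.D4.setup hq hK)
local notation "φ" => phi hq hK
local notation "UU" => Tbl.rootGen Data.D4.tbl K (fun r => 12 ≤ r)

/-- The upper roots. -/
def upper : List ℕ := [15, 16, 17, 19, 20, 21, 22, 23]

/-- The roots outside the short fundamental orbit. -/
def outA : List ℕ := [14, 15, 16, 17, 19, 20, 21, 22, 23]

theorem x_U {r : ℕ} (hr : r < 24) (hp : 12 ≤ r) (t : K) : xx r t ∈ UU :=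
  xU_mem_rootGen (P := fun r => 12 ≤ r) hr hp t

theorem upper_le {P : List ℕ} (hP : ∀ r ∈ P, 12 ≤ r) :
    (TT).rootGen K (· ∈ P) ≤ UU :=
  rootGen_mono fun r _ h => hP r h

theorem U_normalizer {P : List ℕ} (hP : ∀ r < 24, 12 ≤ r → ∀ s ∈ P, s ≠ r →
      s ≠ (TT).neg r ∧ ∀ c ∈ (TT).commT r s, c.1 ∈ P) :
    UU ≤ Subgroup.normalizer ((TT).rootGen K (· ∈ P) : Set (GL (TT).I K)) :=
  rootGen_le fun r hr hp t => xU_mem_normalizer Data.D4.valid Data.D4.chkComm hr
    (fun s _ hs hne => hP r hr hp s hs hne) t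

theorem top_commute {g : GL (TT).I K} (hg : g ∈ UU) (c : K) : Commute (xx 23 c) g := by
  have hh : (TT).half = 12 := by decide +kernel
  refine central_commute Data.D4.valid Data.D4.chkComm (show 23 < (TT).n by decide +kernel) (by rw [hh]; norm_num)
    (fun s hs hp c hc => ?_) c (by rwa [hh])
  have k : ∀ s < 24, 12 ≤ s → (TT).commT 23 s = [] := by decide +kernel
  rw [k s hs (hh ▸ hp)] at hc
  exact absurd hc (by simp)

theorem top22_commute {g : GL (TT).I K} (hg : g ∈ (TT).rootGen K (· ∈ [12, 13, 15, 16, 17, 18, 19, 20, 21, 22, 23]))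
    (c : K) : Commute (xx 22 c) g := by
  induction hg using Subgroup.closure_induction with
  | mem y hy =>
    obtain ⟨r, hr, hP, t, rfl⟩ := hy
    have k : ∀ r ∈ [12, 13, 15, 16, 17, 18, 19, 20, 21, 22, 23],
        r ≠ (TT).neg 22 ∧ (TT).commT 22 r = [] := by decide +kernel
    exact commX (by norm_num) hr (k r hP).1 (k r hP).2 c t
  | one => exact Commute.one_right _
  | mul a b _ _ ha hb => exact ha.mul_right hb
  | inv a _ ha => exact ha.inv_right

theorem upper_x14 {z : GL (TT).I K} (hz : z ∈ (TT).rootGen K (· ∈ upper)) (c : K) :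
    ∃ g, z * xx 14 c = xx 14 c * xx 23 g * z := by
  induction hz using Subgroup.closure_induction generalizing c with
  | mem y hy =>
    obtain ⟨r, hr, hP, t, rfl⟩ := hy
    by_cases h22 : r = 22
    · subst h22
      exact ⟨-(c * t), by rw [sw_22_14, mul_assoc, (top_commute (x_U (by norm_num) (by norm_num) t) _).eq]⟩
    · have k : ∀ r ∈ upper, r ≠ 22 → r ≠ (TT).neg 14 ∧ (TT).commT 14 r = [] := by decide +kernel
      refine ⟨0, ?_⟩
      rw [x_zero (by norm_num), mul_one]
      exact ((commX (by norm_num) hr (k r hP h22).1 (k r hP h22).2 c t).eq).symm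
  | one => exact ⟨0, by rw [x_zero (by norm_num), one_mul, mul_one, mul_one]⟩
  | mul a b ha hb iha ihb =>
    obtain ⟨g1, e1⟩ := iha c
    obtain ⟨g2, e2⟩ := ihb c
    refine ⟨g1 + g2, ?_⟩
    have hc : Commute (xx 23 g2) a := top_commute (upper_le (by decide) ha) g2
    calc a * b * xx 14 c = a * xx 14 c * (xx 23 g2 * b) := by
          rw [mul_assoc, e2]; simp only [mul_assoc]
      _ = xx 14 c * xx 23 g1 * (a * xx 23 g2) * b := by rw [e1]; simp only [mul_assoc]
      _ = xx 14 c * (xx 23 g1 * xx 23 g2) * (a * b) := by rw [← hc.eq]; simp only [mul_assoc]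
      _ = _ := by rw [x_add (by norm_num)]
  | inv a ha iha =>
    obtain ⟨g, e⟩ := iha c
    refine ⟨-g, ?_⟩
    have hc : Commute (xx 23 g) a⁻¹ := top_commute (upper_le (by decide) (inv_mem ha)) g
    rw [← x_inv (by norm_num)]
    have : a⁻¹ * (xx 14 c * xx 23 g) = xx 14 c * a⁻¹ := by
      rw [inv_mul_eq_iff_eq_mul, ← mul_assoc, e, mul_inv_cancel_right]
    calc a⁻¹ * xx 14 c = a⁻¹ * (xx 14 c * xx 23 g) * (xx 23 g)⁻¹ := by group
      _ = xx 14 c * (a⁻¹ * (xx 23 g)⁻¹) := by rw [this, mul_assoc]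
      _ = _ := by rw [(hc.inv_left.eq).symm, ← mul_assoc]

theorem exists_form {u : GL (TT).I K} (hu : u ∈ UU) :
    ∃ y a b c : K, ∃ r ∈ (TT).rootGen K (· ∈ upper),
      u = xx 14 y * (xx 18 a * (xx 13 b * xx 12 c)) * r := by
  have hN : UU ≤ Subgroup.normalizer ((TT).rootGen K (· ∈ upper) : Set (GL (TT).I K)) :=
    U_normalizer (by decide +kernel)
  let S : Set (GL (TT).I K) := {u | ∃ y a b c : K, ∃ r ∈ (TT).rootGen K (· ∈ upper),
      u = xx 14 y * (xx 18 a * (xx 13 b * xx 12 c)) * r}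
  have hcore : ∀ y a b c : K, xx 14 y * (xx 18 a * (xx 13 b * xx 12 c)) ∈ UU := fun y a b c =>
    mul_mem (x_U (by norm_num) (by norm_num) _) (mul_mem (x_U (by norm_num) (by norm_num) _)
      (mul_mem (x_U (by norm_num) (by norm_num) _) (x_U (by norm_num) (by norm_num) _)))
  have hmove : ∀ (g z : GL (TT).I K), g ∈ UU → z ∈ (TT).rootGen K (· ∈ upper) →
      g⁻¹ * z * g ∈ (TT).rootGen K (· ∈ upper) := fun g z hg hz => by
    simpa using (Subgroup.mem_normalizer_iff.mp (hN (inv_mem hg)) z).mp hz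
  have hz : ∀ z ∈ (TT).rootGen K (· ∈ upper), ∀ v ∈ S, z * v ∈ S := by
    rintro z hz _ ⟨y, a, b, c, r, hr, rfl⟩
    exact ⟨y, a, b, c, _, mul_mem (hmove _ z (hcore y a b c) hz) hr, by group⟩
  have hgen : ∀ r < 24, 12 ≤ r → ∀ t : K, ∀ v ∈ S, xx r t * v ∈ S := by
    intro r hr hp t v hv
    have k : ∀ r < 24, 12 ≤ r → r ∈ upper ∨ r = 14 ∨ r = 18 ∨ r = 13 ∨ r = 12 := by decide
    rcases k r hr hp with h | h
    · exact hz _ (xU_mem_rootGen (P := (· ∈ upper)) hr h t) v hv
    obtain ⟨y, a, b, c, z, hz', rfl⟩ := hv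
    have key : ∀ (r : ℕ) (z0 : GL (TT).I K) (a' b' c' : K), z0 ∈ (TT).rootGen K (· ∈ upper) →
        xx r t * xx 14 y = xx 14 y * (xx r t * z0) →
        xx r t * (xx 18 a * (xx 13 b * xx 12 c)) = xx 18 a' * (xx 13 b' * xx 12 c') →
        xx r t * (xx 14 y * (xx 18 a * (xx 13 b * xx 12 c)) * z) ∈ S := by
      intro r z0 a' b' c' hz0 e1 e2
      set core := xx 18 a * (xx 13 b * xx 12 c)
      have hcU : core ∈ UU := mul_mem (x_U (by norm_num) (by norm_num) _)
        (mul_mem (x_U (by norm_num) (by norm_num) _) (x_U (by norm_num) (by norm_num) _))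
      refine ⟨y, a', b', c', _, mul_mem (hmove core z0 hcU hz0) hz', ?_⟩
      rw [← e2, ← mul_assoc (xx r t) (xx 14 y * core), ← mul_assoc (xx r t), e1]
      group
    rcases h with rfl | rfl | rfl | rfl
    · exact ⟨t + y, a, b, c, z, hz', by
        rw [← mul_assoc (xx 14 t), ← mul_assoc (xx 14 t), x_add (by norm_num)]⟩
    · exact key 18 _ (t + a) b c (xU_mem_rootGen (P := (· ∈ upper)) (show 19 < (TT).n by decide +kernel)
        (by decide) _) (by rw [sw_18_14]) (by rw [← mul_assoc, x_add (by norm_num)])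
    · refine key 13 (xx 16 (y * t)) a (t + b) c
        (xU_mem_rootGen (P := (· ∈ upper)) (show 16 < (TT).n by decide +kernel) (by decide) _) ?_ ?_
      · rw [← mul_assoc, sw_14_13 y t, mul_assoc, mul_assoc, x_add (by norm_num), mul_comm t y, neg_add_cancel,
          x_zero (by norm_num), mul_one]
      · rw [← mul_assoc, sw_18_13 a t |>.symm, mul_assoc, ← mul_assoc (xx 13 t), x_add (by norm_num)]
    · refine key 12 (xx 15 (y * t)) a b (t + c)
        (xU_mem_rootGen (P := (· ∈ upper)) (show 15 < (TT).n by decide +kernel) (by decide) _) ?_ ?_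
      · rw [← mul_assoc, sw_14_12 y t, mul_assoc, mul_assoc, x_add (by norm_num), mul_comm t y, neg_add_cancel,
          x_zero (by norm_num), mul_one]
      · rw [← mul_assoc, sw_18_12 a t |>.symm, mul_assoc, ← mul_assoc (xx 12 t), sw_13_12 b t |>.symm,
          mul_assoc, x_add (by norm_num)]
  have h1 : (1 : GL (TT).I K) ∈ S := ⟨0, 0, 0, 0, 1, one_mem _, by simp [x_zero]⟩
  have : ∀ v ∈ S, u * v ∈ S := by
    induction hu using Subgroup.closure_induction'' with
    | mem y hy =>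
      obtain ⟨r, hr, hp, t, rfl⟩ := hy
      exact hgen r hr hp t
    | inv_mem y hy =>
      obtain ⟨r, hr, hp, t, rfl⟩ := hy
      rw [x_inv hr]
      exact hgen r hr hp (-t)
    | one => simp
    | mul a b _ _ ha hb =>
      intro v hv
      rw [mul_assoc]
      exact ha _ (hb v hv)
  simpa [S] using this 1 h1

/-- The form of a fixed element of the positive part. -/
theorem exists_shape {u : GL (TT).I K} (hu : u ∈ UU) (hf : u ∈ (SS).fix) :
    ∃ y t, σ y = y ∧ ∃ r ∈ (TT).rootGen K (· ∈ upper), r ∈ (SS).fix ∧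
      u = xx 14 y * A hq hK t * r := by
  obtain ⟨y, a, b, c, r, hr, rfl⟩ := exists_form hu
  have hup : (TT).rootGen K (· ∈ upper) ≤ (TT).datum.group K :=
    (SS).rootGen_le_group _
  have g1 := x_group (show 14 < 24 by norm_num) y
  have g2 := x_group (show 18 < 24 by norm_num) a
  have g3 := x_group (show 13 < 24 by norm_num) b
  have g4 := x_group (show 12 < 24 by norm_num) c
  have e := hf.2
  rw [(SS).sg_mul (mul_mem g1 (mul_mem g2 (mul_mem g3 g4))) (hup hr), (SS).sg_mul g1 (mul_mem g2 (mul_mem g3 g4)),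
    (SS).sg_mul g2 (mul_mem g3 g4), (SS).sg_mul g3 g4,
    sg_x hq hK (show 14 < 24 by norm_num) (show Data.D4.graph.ρ 14 = 14 by decide +kernel)
      (show Data.D4.graph.ε 14 = 1 by decide +kernel) (by decide +kernel),
    sg_x hq hK (show 18 < 24 by norm_num) (show Data.D4.graph.ρ 18 = 13 by decide +kernel)
      (show Data.D4.graph.ε 18 = 1 by decide +kernel) (by decide +kernel),
    sg_x hq hK (show 13 < 24 by norm_num) (show Data.D4.graph.ρ 13 = 12 by decide +kernel)
      (show Data.D4.graph.ε 13 = 1 by decide +kernel) (by decide +kernel),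
    sg_x hq hK (show 12 < 24 by norm_num) (show Data.D4.graph.ρ 12 = 18 by decide +kernel)
      (show Data.D4.graph.ε 12 = 1 by decide +kernel) (by decide +kernel)] at e
  simp only [Int.cast_one, one_mul] at e
  have hsr : (SS).sg r ∈ (TT).rootGen K (· ∈ upper) := by
    refine (SS).sg_rootGen (fun i hi => ?_) hr
    have k : ∀ i ∈ upper, Data.D4.graph.ρ i ∈ upper := by decide +kernel
    exact k i.val hi
  have norm : ∀ (a b c y : K), ∀ r ∈ (TT).rootGen K (· ∈ upper),
      ∃ g ∈ (TT).rootGen K (fun s => 15 ≤ s),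
        xx 14 y * (xx 18 a * (xx 13 b * xx 12 c)) * r = xx 12 c * (xx 13 b * (xx 14 y * g)) := by
    intro a b c y r hr
    have hx : ∀ r < 24, 15 ≤ r → ∀ t : K, xx r t ∈ (TT).rootGen K (fun s => 15 ≤ s) :=
      fun r hr h t => xU_mem_rootGen (P := fun s => 15 ≤ s) hr h t
    refine ⟨xx 15 (-(c * y)) * (xx 16 (-(b * y)) * (xx 17 (-(b * -(c * y))) * (xx 18 a * r))),
      mul_mem (hx 15 (by norm_num) le_rfl _) (mul_mem (hx 16 (by norm_num) (by norm_num) _)
        (mul_mem (hx 17 (by norm_num) (by norm_num) _) (mul_mem (hx 18 (by norm_num) (by norm_num) _)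
          (rootGen_mono (fun s _ h => by revert s; decide) hr)))), ?_⟩
    simp (discharger := omega) only [mul_assoc, sw_13_12, sw_13_12', sw_14_12, sw_14_12', sw_14_13, sw_14_13',
      sw_15_12', sw_15_13', sw_15_14', sw_16_12', sw_16_13', sw_16_14', sw_18_12, sw_18_12', sw_18_13, sw_18_13',
      sw_16_15', sw_17_15', sw_17_16', sw_17_14', x_add, x_add', neg_mul, neg_neg]
  have e' : xx 14 (σ y) * (xx 18 (σ c) * (xx 13 (σ a) * xx 12 (σ b))) * (SS).sg r =
      xx 14 y * (xx 18 a * (xx 13 b * xx 12 c)) * r := by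
    refine Eq.trans ?_ e
    simp (discharger := omega) only [mul_assoc, sw_18_12, sw_18_12', sw_18_13, sw_18_13', sw_13_12, sw_13_12']
  obtain ⟨g, hg, k1⟩ := norm (σ c) (σ a) (σ b) (σ y) _ hsr
  obtain ⟨g', hg', k2⟩ := norm a b c y r hr
  rw [k1, k2] at e'
  have hh : (TT).half = 12 := by decide +kernel
  have in13 : ∀ (b y : K), ∀ g ∈ (TT).rootGen K (fun s => 15 ≤ s),
      xx 13 b * (xx 14 y * g) ∈ (TT).rootGen K (fun s => 12 + 1 ≤ s) := fun b y g hg =>
    mul_mem (xU_mem_rootGen (P := fun s => 12 + 1 ≤ s) (show 13 < (TT).n by decide +kernel) (by norm_num) _)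
      (mul_mem (xU_mem_rootGen (P := fun s => 12 + 1 ≤ s) (show 14 < (TT).n by decide +kernel) (by norm_num) _)
        (rootGen_mono (fun s _ (h : 15 ≤ s) => by omega) hg))
  obtain ⟨ec, e'⟩ := xU_mul_inj Data.D4.valid Data.D4.chkComm (k := 12) (by rw [hh]) (by decide +kernel)
    (in13 _ _ _ hg) (in13 _ _ _ hg') e'
  have in14 : ∀ (y : K), ∀ g ∈ (TT).rootGen K (fun s => 15 ≤ s),
      xx 14 y * g ∈ (TT).rootGen K (fun s => 13 + 1 ≤ s) := fun y g hg =>
    mul_mem (xU_mem_rootGen (P := fun s => 13 + 1 ≤ s) (show 14 < (TT).n by decide +kernel) (by norm_num) _)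
      (rootGen_mono (fun s _ (h : 15 ≤ s) => by omega) hg)
  obtain ⟨eb, e'⟩ := xU_mul_inj Data.D4.valid Data.D4.chkComm (k := 13) (by rw [hh]; norm_num)
    (by decide +kernel) (in14 _ _ hg) (in14 _ _ hg') e'
  obtain ⟨ey, -⟩ := xU_mul_inj Data.D4.valid Data.D4.chkComm (k := 14) (by rw [hh]; norm_num)
    (by decide +kernel) (rootGen_mono (fun s _ (h : 15 ≤ s) => h) hg)
    (rootGen_mono (fun s _ (h : 15 ≤ s) => h) hg') e'
  have hA : xx 18 a * (xx 13 b * xx 12 c) = A hq hK a := by rw [A, ← ec, ← eb]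
  rw [hA] at hf ⊢
  refine ⟨y, a, ey, r, hr, ?_, rfl⟩
  have := mul_mem (inv_mem (mul_mem (long_fix hq hK (show 14 < 24 by norm_num) (by decide +kernel) ey).1
    (A_fix hq hK a))) hf
  rwa [inv_mul_cancel_left] at this

end CfsgLib.KnownA.D4Sub
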